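import Mathlib.FieldTheory.KummerExtension
import Mathlib.FieldTheory.PurelyInseparable.Basic
import Mathlib.RingTheory.AlgebraicIndependent.AlgebraicClosure
import Mathlib.RingTheory.AlgebraicIndependent.Adjoin
import Mathlib.RingTheory.Algebraic.MvPolynomial
import Mathlib.RingTheory.AlgebraicIndependent.TranscendenceBasis
import Mathlib.FieldTheory.AlgebraicClosure
import Mathlib.FieldTheory.IntermediateField.Adjoin.Algebra

/-! Purely inseparable towers, `p`-th powers, algebraic closure in finitely generated extensions. -/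

namespace GrothLib.FieldExtra

universe u

open Polynomial IntermediateField

theorem exists_pth_root {K L : Type u} [Field K] [Field L] [Algebra K L] (p : ℕ) [Fact p.Prime]
    [CharP K p] (a : L) (P : K[X]) (hroot : aeval a P = 0) (hsep : P.Separable)
    (hcoeff : ∀ i : ℕ, ∃ b : K, b ^ p = P.coeff i) : ∃ c : L, c ^ p = a := by
  have : CharP L p := charP_of_injective_algebraMap (algebraMap K L).injective p
  set F : Subfield L := (frobenius L p).fieldRange
  have hmem : ∀ x : L, x ^ p ∈ F := fun x => ⟨x, rfl⟩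
  have hlift : P.map (algebraMap K L) ∈ Polynomial.lifts (algebraMap F L) := by
    rw [Polynomial.lifts_iff_coeff_lifts]
    intro n
    obtain ⟨b, hb⟩ := hcoeff n
    exact ⟨⟨algebraMap K L b ^ p, hmem _⟩, by rw [coeff_map, ← hb, map_pow]; rfl⟩
  obtain ⟨Q, hQ⟩ := (Polynomial.mem_lifts _).1 hlift
  have hQsep : Q.Separable := by
    rw [← Polynomial.separable_map (algebraMap F L), hQ, Polynomial.separable_map]
    exact hsep
  have hdvd : minpoly F a ∣ Q := minpoly.dvd _ _ (by
    rw [aeval_def, ← eval_map, hQ, eval_map, ← aeval_def, hroot])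
  let c : F := ⟨a ^ p, hmem a⟩
  have hdvd2 : minpoly F a ∣ X ^ p - C c := minpoly.dvd _ _ (by
    rw [map_sub, map_pow, aeval_X, aeval_C]
    exact sub_self _)
  have hint : IsIntegral F a :=
    ⟨X ^ p - C c, monic_X_pow_sub_C c (Fact.out : p.Prime).ne_zero, by
      rw [← aeval_def, map_sub, map_pow, aeval_X, aeval_C]; exact sub_self _⟩
  set q := (minpoly F a).map (algebraMap F L)
  have hqsq : Squarefree q := ((hQsep.of_dvd hdvd).map).squarefree
  have hq : q ∣ (X - C a) ^ p := by
    have := Polynomial.map_dvd (algebraMap F L) hdvd2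
    rw [sub_pow_char, ← C_pow]
    simpa [c, show algebraMap F L ⟨a ^ p, hmem a⟩ = a ^ p from rfl] using this
  have hq1 : q ∣ X - C a :=
    (hqsq.dvd_pow_iff_dvd (Fact.out : p.Prime).ne_zero).1 hq
  have hdeg : (minpoly F a).natDegree ≤ 1 := by
    rw [← natDegree_map (algebraMap F L)]
    exact (natDegree_le_of_dvd hq1 (X_sub_C_ne_zero a)).trans (natDegree_X_sub_C a).le
  obtain ⟨y, hy⟩ := minpoly.natDegree_eq_one_iff.1 (le_antisymm hdeg (minpoly.natDegree_pos hint))
  obtain ⟨z, hz⟩ := y.2
  exact ⟨z, by rw [← hy]; exact hz⟩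

theorem pthRoots_aux {F E : Type u} [Field F] [Field E] [Algebra F E] (p : ℕ)
    [Fact p.Prime] [CharP F p] [FiniteDimensional F E] [IsPurelyInseparable F E] :
    ∀ d : ℕ, ∀ (n : ℕ) (a : Fin n → E),
      (∀ i : Fin n, a i ^ p ∈ adjoin F (a '' {j | j < i}) ∧ a i ∉ adjoin F (a '' {j | j < i})) →
      Module.finrank F (adjoin F (Set.range a)) = p ^ n →
      Module.finrank F E ≤ p ^ n + d →
    ∃ (n : ℕ) (a : Fin n → E), adjoin F (Set.range a) = ⊤ ∧
      (∀ i : Fin n, a i ^ p ∈ adjoin F (a '' {j | j < i}) ∧ a i ∉ adjoin F (a '' {j | j < i})) ∧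
      Module.finrank F E = p ^ n := by
  intro d
  induction d using Nat.strong_induction_on with
  | _ d ih =>
  intro n a ha hdeg hd
  by_cases htop : adjoin F (Set.range a) = ⊤
  · exact ⟨n, a, htop, ha, by rw [← hdeg, htop, IntermediateField.finrank_top']⟩
  set E' := adjoin F (Set.range a)
  have : ExpChar F p := ExpChar.prime Fact.out
  obtain ⟨x, hx⟩ : ∃ x : E, x ∉ E' := by
    by_contra h
    push Not at h
    exact htop (eq_top_iff.2 fun x _ => h x)
  have hk : ∃ k, x ^ p ^ k ∈ E' := by
    obtain ⟨k, y, hy⟩ := IsPurelyInseparable.pow_mem F p x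
    exact ⟨k, hy ▸ E'.algebraMap_mem y⟩
  classical
  have hpos : 0 < Nat.find hk := Nat.pos_of_ne_zero fun h => hx (by simpa [h] using Nat.find_spec hk)
  set b := x ^ p ^ (Nat.find hk - 1)
  have hbE : b ∉ E' := Nat.find_min hk (by omega)
  have hbp : b ^ p ∈ E' := by
    rw [← pow_mul, ← pow_succ, show Nat.find hk - 1 + 1 = Nat.find hk by omega]
    exact Nat.find_spec hk
  let a' : Fin (n + 1) → E := Fin.snoc a b
  have himg : ∀ i : Fin n, a' '' {j | j < Fin.castSucc i} = a '' {j | j < i} := by
    intro i
    ext y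
    constructor
    · rintro ⟨j, hj, rfl⟩
      obtain ⟨j', rfl⟩ : ∃ j' : Fin n, Fin.castSucc j' = j :=
        ⟨⟨j.1, lt_trans (show j.1 < i.1 from hj) i.2⟩, rfl⟩
      exact ⟨j', hj, by simp [a']⟩
    · rintro ⟨j, hj, rfl⟩; exact ⟨Fin.castSucc j, hj, by simp [a']⟩
  have hlast : a' '' {j | j < Fin.last n} = Set.range a := by
    ext y
    constructor
    · rintro ⟨j, hj, rfl⟩
      obtain ⟨j', rfl⟩ : ∃ j' : Fin n, Fin.castSucc j' = j := ⟨⟨j.1, hj⟩, rfl⟩
      exact ⟨j', by simp [a']⟩
    · rintro ⟨j, rfl⟩; exact ⟨Fin.castSucc j, Fin.castSucc_lt_last j, by simp [a']⟩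
  have ha' : ∀ i : Fin (n + 1),
      a' i ^ p ∈ adjoin F (a' '' {j | j < i}) ∧ a' i ∉ adjoin F (a' '' {j | j < i}) := by
    refine Fin.lastCases ?_ fun i => ?_
    · rw [hlast]; simp only [a', Fin.snoc_last]; exact ⟨hbp, hbE⟩
    · rw [himg]; simpa [a'] using ha i
  have hrange : Set.range a' = Set.range a ∪ {b} := by
    rw [Fin.range_snoc, Set.union_singleton]
  have hb2 : Module.finrank E' (adjoin E' ({b} : Set E)) = p := by
    have hint : IsIntegral E' b := IsIntegral.of_finite _ _
    have hirr : Irreducible (X ^ p - C (⟨b ^ p, hbp⟩ : E')) := by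
      refine X_pow_sub_C_irreducible_of_prime Fact.out fun c hc => hbE ?_
      have : ExpChar E p := expChar_of_injective_ringHom (algebraMap F E).injective p
      have h1 : (c : E) ^ p = b ^ p := congrArg Subtype.val hc
      rw [← frobenius_inj E p h1]
      exact c.2
    rw [IntermediateField.adjoin.finrank hint,
      ← minpoly.eq_of_irreducible_of_monic hirr (by
        rw [map_sub, map_pow, aeval_X, aeval_C]; exact sub_self _)
        (monic_X_pow_sub_C _ (Fact.out : p.Prime).ne_zero), natDegree_X_pow_sub_C]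
  have hdeg' : Module.finrank F (adjoin F (Set.range a')) = p ^ (n + 1) := by
    rw [hrange, ← adjoin_adjoin_left, pow_succ, ← hdeg, ← hb2]
    exact (Module.finrank_mul_finrank F E' (adjoin E' ({b} : Set E))).symm
  have hle : p ^ (n + 1) ≤ Module.finrank F E := by
    rw [← hdeg']
    exact Submodule.finrank_le (adjoin F (Set.range a')).toSubalgebra.toSubmodule
  have hlt : p ^ n < p ^ (n + 1) := Nat.pow_lt_pow_right (Fact.out : p.Prime).one_lt n.lt_succ_self
  exact ih (Module.finrank F E - p ^ (n + 1)) (by omega) (n + 1) a' ha' hdeg' (by omega)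

theorem pthRoots {F E : Type u} [Field F] [Field E] [Algebra F E] (p : ℕ)
    [Fact p.Prime] [CharP F p] [FiniteDimensional F E] [IsPurelyInseparable F E] :
    ∃ (n : ℕ) (a : Fin n → E), adjoin F (Set.range a) = ⊤ ∧
      (∀ i : Fin n, a i ^ p ∈ adjoin F (a '' {j | j < i}) ∧ a i ∉ adjoin F (a '' {j | j < i})) ∧
      Module.finrank F E = p ^ n :=
  pthRoots_aux p (Module.finrank F E) 0 Fin.elim0 (fun i => i.elim0)
    (by rw [Set.range_eq_empty, adjoin_empty, IntermediateField.finrank_bot, pow_zero])
    (Nat.le_add_left _ _)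

open scoped IntermediateField.algebraAdjoinAdjoin in
theorem finiteDimensional_algebraicClosure {k K : Type u} [Field k] [Field K] [Algebra k K]
    (hfg : (⊤ : IntermediateField k K).FG) : FiniteDimensional k (algebraicClosure k K) := by
  classical
  obtain ⟨s, hs⟩ := hfg
  have halgE : Algebra.IsAlgebraic (adjoin k (s : Set K)) K := by
    rw [hs]
    exact ⟨fun x => isAlgebraic_algebraMap (⟨x, trivial⟩ : (⊤ : IntermediateField k K))⟩
  have halgs : Algebra.IsAlgebraic (Algebra.adjoin k (s : Set K)) K :=
    (IsFractionRing.comap_isAlgebraic_iff (A := Algebra.adjoin k (s : Set K))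
      (K := adjoin k (s : Set K)) (C := K)).2 halgE
  obtain ⟨t, hts, htb⟩ := exists_isTranscendenceBasis_subset (R := k) (s : Set K)
  have htfin : t.Finite := s.finite_toSet.subset hts
  set E := adjoin k (Set.range (Subtype.val : t → K))
  have : Algebra.IsAlgebraic E K := htb.isAlgebraic_field
  have : FiniteDimensional E K := by
    have h := hs ▸ (adjoin_le_iff (S := (s : Set K))
      (T := (adjoin E (s : Set K)).restrictScalars k)).2 (subset_adjoin E (s : Set K))
    have hEtop : adjoin E (s : Set K) = ⊤ := eq_top_iff.2 fun x _ => h trivial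
    have := IntermediateField.finiteDimensional_adjoin (K := E) (S := (s : Set K))
      fun x _ => (Algebra.IsAlgebraic.isAlgebraic x).isIntegral
    rw [hEtop] at this
    exact Module.Finite.equiv (IntermediateField.topEquiv (F := E) (E := K)).toLinearEquiv
  set L' := algebraicClosure k K
  have hind : AlgebraicIndependent L' (Subtype.val : t → K) := htb.1.extendScalars L'
  refine Module.rank_lt_aleph0_iff.1 ((rank_le (n := Module.finrank E K) fun v hv => ?_).trans_lt
    Cardinal.natCast_lt_aleph0)
  have hE : LinearIndependent E fun i : v => ((i : L') : K) := by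
    rw [← LinearIndependent.iff_fractionRing (R := Algebra.adjoin k (Set.range (Subtype.val : t → K)))]
    rw [Fintype.linearIndependent_iff]
    intro c hc i
    have hc' : ∀ j, ∃ q : MvPolynomial t k, MvPolynomial.aeval (Subtype.val : t → K) q = (c j : K) :=
      fun j => by
        exact (SetLike.ext_iff.1
          (Algebra.adjoin_range_eq_range_aeval k (Subtype.val : t → K)) ((c j : K))).1 (c j).2
    choose q hq using hc'
    have hsum : ∑ j : v, MvPolynomial.C (σ := t) (j : L') * (q j).map (algebraMap k L') = 0 := by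
      apply hind
      show MvPolynomial.aeval (R := L') (Subtype.val : t → K) _ = MvPolynomial.aeval _ 0
      rw [map_zero, map_sum, ← hc]
      refine Finset.sum_congr rfl fun j _ => ?_
      rw [map_mul, MvPolynomial.aeval_C, MvPolynomial.aeval_map_algebraMap, hq, Algebra.smul_def,
        mul_comm]
      rfl
    have hq0 : q i = 0 := by
      ext m
      have h := congrArg (MvPolynomial.coeff m) hsum
      simp only [MvPolynomial.coeff_sum, MvPolynomial.coeff_C_mul, MvPolynomial.coeff_map,
        MvPolynomial.coeff_zero] at h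
      have h2 : ∑ j : v, (q j).coeff m • (j : L') = 0 := by
        rw [← h]
        exact Finset.sum_congr rfl fun j _ => by rw [Algebra.smul_def, mul_comm]
      rw [MvPolynomial.coeff_zero]
      exact Fintype.linearIndependent_iff.1 hv _ h2 i
    apply Subtype.ext
    rw [← hq, hq0, map_zero]
    rfl
  simpa using hE.fintype_card_le_finrank

end GrothLib.FieldExtra
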