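import Mathlib.RingTheory.Norm.Transitivity
import Mathlib.RingTheory.Trace.Basic
import Mathlib.LinearAlgebra.Matrix.Charpoly.Minpoly
import Mathlib.LinearAlgebra.Charpoly.ToMatrix
import Mathlib.FieldTheory.IntermediateField.Adjoin.Basic

/-! Characteristic polynomials and traces in towers. -/

namespace GrothLib.FieldExtra

universe u

open Polynomial Matrix

theorem charpoly_blockDiagonal {R : Type*} [CommRing R] {n o : Type*} [Fintype n] [DecidableEq n]
    [Fintype o] [DecidableEq o] (M : o → Matrix n n R) :
    (blockDiagonal M).charpoly = ∏ k, (M k).charpoly := by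
  have : (blockDiagonal M).charmatrix = blockDiagonal fun k => (M k).charmatrix := by
    ext ⟨i, k⟩ ⟨j, l⟩
    by_cases hkl : k = l
    · subst hkl
      by_cases hij : i = j
      · subst hij; simp
      · rw [charmatrix_apply_ne _ _ _ (by simp [hij]), blockDiagonal_apply_eq, blockDiagonal_apply_eq,
          charmatrix_apply_ne _ _ _ hij]
    · rw [charmatrix_apply_ne _ _ _ (by simp [hkl]), blockDiagonal_apply_ne _ _ _ hkl,
        blockDiagonal_apply_ne _ _ _ hkl]
      simp
  rw [Matrix.charpoly, this, det_blockDiagonal]
  rfl

open scoped IntermediateField in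
theorem charpoly_lmul {K L : Type u} [Field K] [Field L] [Algebra K L] [FiniteDimensional K L]
    (a : L) :
    (Algebra.lmul K L a).charpoly = minpoly K a ^ Module.finrank K⟮a⟯ L ∧
      Module.finrank K⟮a⟯ L * (minpoly K a).natDegree = Module.finrank K L := by
  classical
  have ha : IsIntegral K a := IsIntegral.of_finite K a
  refine ⟨?_, ?_⟩
  · set pb := IntermediateField.adjoin.powerBasis ha
    let c := Module.finBasis K⟮a⟯ L
    rw [← LinearMap.charpoly_toMatrix (Algebra.lmul K L a) (pb.basis.smulTower c)]
    have h1 : LinearMap.toMatrix (pb.basis.smulTower c) (pb.basis.smulTower c) (Algebra.lmul K L a) =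
        blockDiagonal fun _ => Algebra.leftMulMatrix pb.basis pb.gen := by
      rw [← Algebra.smulTower_leftMulMatrix_algebraMap (c := c)]
      rfl
    rw [h1, charpoly_blockDiagonal, charpoly_leftMulMatrix pb,
      IntermediateField.adjoin.powerBasis_gen, IntermediateField.minpoly_gen, Finset.prod_const,
      Finset.card_univ, Fintype.card_fin]
  · rw [← IntermediateField.adjoin.finrank ha, mul_comm]
    exact Module.finrank_mul_finrank K K⟮a⟯ L

theorem trace_restrictScalars {K L : Type u} [Field K] [Field L] [Algebra K L]
    [FiniteDimensional K L] (V : Type u) [AddCommGroup V] [Module L V] [Module K V]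
    [IsScalarTower K L V] [FiniteDimensional L V] (φ : V →ₗ[L] V) :
    LinearMap.trace K V (φ.restrictScalars K) = Algebra.trace K L (LinearMap.trace L V φ) := by
  classical
  let b := Module.finBasis K L
  let c := Module.finBasis L V
  rw [LinearMap.trace_eq_matrix_trace K (b.smulTower' c),
    LinearMap.trace_eq_matrix_trace L c, Algebra.trace_eq_matrix_trace b,
    LinearMap.restrictScalars_toMatrix]
  simp [Matrix.trace, Fintype.sum_prod_type, Matrix.sum_apply, map_sum]
  exact Finset.sum_comm

end GrothLib.FieldExtra
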