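import Mathlib.RingTheory.Trace.Basic
import Mathlib.FieldTheory.Galois.Basic
import Mathlib.FieldTheory.Normal.Closure
import Mathlib.FieldTheory.SeparableDegree
import Mathlib.FieldTheory.Fixed
import Mathlib.RingTheory.PiTensorProduct
import Mathlib.RingTheory.TensorProduct.Free
import Mathlib.LinearAlgebra.Dimension.Constructions

/-! Artin–Schreier generators, Kummer subfields, embeddings and tensor products. -/

namespace GrothLib.FieldExtra

universe u v w

open Polynomial IntermediateField TensorProduct

theorem artin_schreier {K L : Type u} [Field K] [Field L] [Algebra K L] (p : ℕ)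
    [Fact p.Prime] [CharP K p] [FiniteDimensional K L] [IsGalois K L]
    (hdeg : Module.finrank K L = p) :
    ∃ z : L, z ^ p - z ∈ Set.range (algebraMap K L) ∧ K⟮z⟯ = ⊤ := by
  classical
  have : CharP L p := charP_of_injective_algebraMap (algebraMap K L).injective p
  have hp := (Fact.out : p.Prime)
  have hcard : Nat.card (L ≃ₐ[K] L) = p := by rw [IsGalois.card_aut_eq_finrank, hdeg]
  obtain ⟨σ, hσ⟩ := (isCyclic_of_prime_card hcard).exists_generator
  have hord : orderOf σ = p := by rw [orderOf_eq_card_of_forall_mem_zpowers hσ, hcard]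
  obtain ⟨θ, hθ⟩ := Algebra.trace_surjective K L 1
  let f : ℕ → L := fun i => (σ ^ i) θ
  have hf : ∀ i, σ (f i) = f (i + 1) := fun i => by simp only [f, pow_succ']; rfl
  have hfp : f p = f 0 := by simp only [f, ← hord, pow_orderOf_eq_one, pow_zero]
  have htr : ∑ i ∈ Finset.range p, f i = 1 := by
    rw [← map_one (algebraMap K L), ← hθ, trace_eq_sum_automorphisms]
    have hinj : Set.InjOn (fun i => σ ^ i) (Finset.range p : Set ℕ) := fun i hi j hj h =>
      pow_injOn_Iio_orderOf (by simpa [hord] using hi) (by simpa [hord] using hj) h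
    have himg : (Finset.range p).image (fun i => σ ^ i) = Finset.univ := by
      rw [← Finset.card_eq_iff_eq_univ, Finset.card_image_of_injOn hinj, Finset.card_range,
        ← Nat.card_eq_fintype_card, hcard]
    rw [← himg, Finset.sum_image hinj]
  refine ⟨∑ i ∈ Finset.range p, (i : L) * f i, ?_⟩
  set z := ∑ i ∈ Finset.range p, (i : L) * f i
  have hσz : σ z = z - 1 := by
    have h1 : σ z = ∑ i ∈ Finset.range p, (((i + 1 : ℕ) : L) * f (i + 1) - f (i + 1)) := by
      rw [map_sum]
      refine Finset.sum_congr rfl fun i _ => ?_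
      rw [map_mul, map_natCast, hf]; push_cast; ring
    have h2 : ∑ i ∈ Finset.range p, ((i + 1 : ℕ) : L) * f (i + 1) = z := by
      have h := Finset.sum_range_succ' (fun i => (i : L) * f i) p
      rw [Finset.sum_range_succ] at h
      simpa [CharP.cast_eq_zero L p] using h.symm
    have h3 : ∑ i ∈ Finset.range p, f (i + 1) = 1 := by
      rw [← htr]
      have h := Finset.sum_range_succ' f p
      rw [Finset.sum_range_succ, hfp] at h
      exact (add_right_cancel h).symm
    rw [h1, Finset.sum_sub_distrib, h2, h3]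
  have hmem : z ^ p - z ∈ Set.range (algebraMap K L) := by
    rw [← IntermediateField.mem_bot, IsGalois.mem_bot_iff_fixed]
    have hfix : σ (z ^ p - z) = z ^ p - z := by
      rw [map_sub, map_pow, hσz, sub_pow_char, one_pow]; ring
    intro g
    have hle : Subgroup.zpowers σ ≤ MulAction.stabilizer (L ≃ₐ[K] L) (z ^ p - z) :=
      Subgroup.zpowers_le.2 hfix
    exact hle (hσ g)
  refine ⟨hmem, ?_⟩
  have hnot : K⟮z⟯ ≠ ⊥ := fun h => by
    have : z ∈ (⊥ : IntermediateField K L) := h ▸ mem_adjoin_simple_self K z
    rw [IsGalois.mem_bot_iff_fixed] at this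
    have := this σ
    rw [hσz] at this
    exact one_ne_zero (sub_eq_self.1 this)
  have hdvd : Module.finrank K K⟮z⟯ ∣ p :=
    ⟨_, by rw [← hdeg]; exact (Module.finrank_mul_finrank K K⟮z⟯ L).symm⟩
  rcases hp.eq_one_or_self_of_dvd _ hdvd with h | h
  · exact absurd (IntermediateField.finrank_eq_one_iff.1 h) hnot
  · exact IntermediateField.eq_of_le_of_finrank_eq le_top (by rw [h, IntermediateField.finrank_top', hdeg])

theorem kummer_subfield {K L : Type u} [Field K] [Field L] [Algebra K L]
    [FiniteDimensional K L] (a : L) (ha : K⟮a⟯ = ⊤)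
    (hpow : a ^ Module.finrank K L ∈ Set.range (algebraMap K L))
    (hroots : (X ^ Module.finrank K L - 1 : K[X]).Splits) (L' : IntermediateField K L) :
    ∃ d : ℕ, d ∣ Module.finrank K L ∧ L' = K⟮a ^ d⟯ := by
  classical
  set e := Module.finrank K L
  have he : 0 < e := Module.finrank_pos
  refine ⟨Module.finrank L' L, ⟨Module.finrank K L', by
    rw [mul_comm]; exact (Module.finrank_mul_finrank K L' L).symm⟩, ?_⟩
  set d := Module.finrank L' L
  have hdd : Module.finrank K L' * d = e := Module.finrank_mul_finrank K L' L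
  have hgen : ∀ E : IntermediateField K L, (E⟮a⟯ : IntermediateField E L) = ⊤ := fun E => by
    rw [eq_top_iff]
    intro x _
    have h1 : x ∈ K⟮a⟯ := ha ▸ trivial
    exact (adjoin_le_iff (T := (E⟮a⟯).restrictScalars K)).2
      (Set.singleton_subset_iff.2 (mem_adjoin_simple_self E a)) h1
  have hint : IsIntegral L' a := IsIntegral.of_finite _ _
  set q := minpoly L' a
  have hqd : q.natDegree = d := by
    rw [← IntermediateField.adjoin.finrank hint, hgen L', IntermediateField.finrank_top']
  have hmemd : a ^ d ∈ L' := by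
    rcases eq_or_ne a 0 with rfl | ha0
    · rw [zero_pow (Module.finrank_pos (R := L') (M := L)).ne']; exact zero_mem _
    obtain ⟨c, hc⟩ := hpow
    set qL := q.map (algebraMap L' L)
    set PL : L[X] := X ^ e - C (a ^ e)
    have hdvd : qL ∣ PL := by
      have h : q ∣ X ^ e - C (algebraMap K L' c) := minpoly.dvd _ _ (by
        rw [map_sub, map_pow, aeval_X, aeval_C, ← IsScalarTower.algebraMap_apply, hc, sub_self])
      have := Polynomial.map_dvd (algebraMap L' L) h
      rwa [Polynomial.map_sub, Polynomial.map_pow, map_X, map_C, ← IsScalarTower.algebraMap_apply,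
        hc] at this
    have hPne : PL ≠ 0 := X_pow_sub_C_ne_zero he _
    have hsp1 : (X ^ e - C (1 : L)).Splits := by
      have := hroots.map (algebraMap K L)
      simpa using this
    have hPs : PL.Splits := by
      have h := hsp1.comp_of_degree_le_one (g := C a⁻¹ * X) (degree_C_mul_X_le _)
      have h2 : PL = C (a ^ e) * (X ^ e - C (1 : L)).comp (C a⁻¹ * X) := by
        rw [sub_comp, X_pow_comp, C_comp, mul_pow, mul_sub, ← mul_assoc, ← C_pow, ← C_mul,
          ← mul_pow, mul_inv_cancel₀ ha0, one_pow, C_1, one_mul, mul_one]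
      rw [h2]
      exact (Splits.C _).mul h
    have hqm : qL.Monic := (minpoly.monic hint).map _
    have hqs : qL.Splits := hPs.of_dvd hPne hdvd
    have hroot : ∀ r ∈ qL.roots, ∃ k : K, r = algebraMap K L k * a := by
      intro r hr
      have h1 : PL.IsRoot r := ((mem_roots hqm.ne_zero).1 hr).dvd hdvd
      have h2 : (r / a) ^ e = 1 := by
        rw [IsRoot, eval_sub, eval_pow, eval_X, eval_C, sub_eq_zero] at h1
        rw [div_pow, h1, div_self (pow_ne_zero _ ha0)]
      obtain ⟨k, hk⟩ : r / a ∈ (algebraMap K L).range := by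
        refine hroots.mem_range_of_isRoot (i := algebraMap K L)
          (by simpa using X_pow_sub_C_ne_zero (R := K) he 1) ?_
        simp [IsRoot, h2]
      exact ⟨k, by rw [hk, div_mul_cancel₀ _ ha0]⟩
    have hprod : ∀ m : Multiset L, (∀ r ∈ m, ∃ k : K, r = algebraMap K L k * a) →
        ∃ k : K, m.prod = algebraMap K L k * a ^ m.card := by
      intro m
      induction m using Multiset.induction with
      | empty => exact fun _ => ⟨1, by simp⟩
      | cons r m ih =>
        intro h
        obtain ⟨k, hk⟩ := h r (Multiset.mem_cons_self r m)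
        obtain ⟨k', hk'⟩ := ih fun s hs => h s (Multiset.mem_cons_of_mem hs)
        exact ⟨k * k', by rw [Multiset.prod_cons, hk, hk', Multiset.card_cons, map_mul, pow_succ]; ring⟩
    obtain ⟨k, hk⟩ := hprod _ hroot
    have hcard : qL.roots.card = d := by rw [← hqs.natDegree_eq_card_roots, natDegree_map, hqd]
    have h0 := hqs.coeff_zero_eq_prod_roots_of_monic hqm
    rw [hk, hcard, natDegree_map, hqd, coeff_map] at h0
    have hk0 : algebraMap K L k ≠ 0 := by
      intro hk0
      rw [hk0, zero_mul, mul_zero] at h0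
      exact minpoly.coeff_zero_ne_zero hint ha0 ((algebraMap L' L).injective (h0.trans (map_zero _).symm))
    have : a ^ d = (-1) ^ d * (algebraMap K L k)⁻¹ * (q.coeff 0 : L) := by
      rw [show (q.coeff 0 : L) = algebraMap L' L (q.coeff 0) from rfl, h0]
      field_simp
      rw [← pow_mul, mul_comm d 2, pow_mul]; norm_num
    rw [this]
    exact mul_mem (mul_mem (pow_mem (neg_mem (one_mem _)) _) (inv_mem (L'.algebraMap_mem k)))
      (q.coeff 0).2
  have hle : K⟮a ^ d⟯ ≤ L' := adjoin_simple_le_iff.2 hmemd
  refine (IntermediateField.eq_of_le_of_finrank_le hle ?_).symm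
  have h1 : Module.finrank K⟮a ^ d⟯ L ≤ d := by
    set E := K⟮a ^ d⟯
    have hint : IsIntegral E a := IsIntegral.of_finite _ _
    rw [← IntermediateField.finrank_top' (F := E) (E := L), ← hgen E, IntermediateField.adjoin.finrank hint]
    have hd0 : d ≠ 0 := (Module.finrank_pos (R := L') (M := L)).ne'
    refine (natDegree_le_of_dvd (minpoly.dvd E a (p := X ^ d - C ⟨a ^ d, mem_adjoin_simple_self K _⟩) ?_)
      (X_pow_sub_C_ne_zero (Nat.pos_of_ne_zero hd0) _)).trans natDegree_X_pow_sub_C.le
    rw [map_sub, map_pow, aeval_X, aeval_C]; exact sub_self _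
  have h2 := Module.finrank_mul_finrank K K⟮a ^ d⟯ L
  have h3 : Module.finrank K L' * d ≤ Module.finrank K K⟮a ^ d⟯ * d := by
    rw [hdd]; exact h2.ge.trans (Nat.mul_le_mul_left _ h1)
  exact Nat.le_of_mul_le_mul_right h3 Module.finrank_pos

/-- `a ⊗ x ↦ (σ x * a)_σ`. -/
noncomputable def piEmb (F : Type u) (K : Type v) (L : Type w) [Field F] [Field K] [Field L]
    [Algebra F K] [Algebra F L] : L ⊗[F] K →ₐ[L] ((K →ₐ[F] L) → L) :=
  AlgHom.pi (R := L) (A := fun _ => L) fun σ =>
    Algebra.TensorProduct.lift (AlgHom.id L L) σ fun a b => Commute.all a (σ b)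

theorem piEmb_tmul {F : Type u} {K : Type v} {L : Type w} [Field F] [Field K] [Field L]
    [Algebra F K] [Algebra F L] (a : L) (x : K) (σ : K →ₐ[F] L) :
    piEmb F K L (a ⊗ₜ x) σ = a * σ x := rfl

theorem piEmb_surjective {F : Type u} {K : Type v} {L : Type w} [Field F] [Field K] [Field L]
    [Algebra F K] [Algebra F L] [FiniteDimensional F K] : Function.Surjective (piEmb F K L) := by
  classical
  show Function.Surjective (piEmb F K L).toLinearMap
  rw [← LinearMap.range_eq_top]
  by_contra h
  obtain ⟨φ, hφ, hle⟩ := Submodule.exists_le_ker_of_lt_top _ (lt_top_iff_ne_top.2 h)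
  let c : (K →ₐ[F] L) → L := fun σ => φ (Pi.single σ 1)
  have hc : ∀ v, φ v = ∑ σ, v σ * c σ := fun v => by
    conv_lhs => rw [pi_eq_sum_univ' v, map_sum]
    simp [c]
  have h0 : ∀ σ, c σ = 0 := Fintype.linearIndependent_iff.1 (linearIndependent_toLinearMap F K L) c (by
    refine LinearMap.ext fun x => ?_
    have := hle ⟨(1 : L) ⊗ₜ x, rfl⟩
    rw [LinearMap.mem_ker, AlgHom.toLinearMap_apply, hc] at this
    simpa [piEmb_tmul, mul_comm] using this)
  exact hφ (LinearMap.ext fun v => by rw [hc]; simp [h0])

theorem piEmb_bijective {F : Type u} {K : Type v} {L : Type w} [Field F] [Field K] [Field L]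
    [Algebra F K] [Algebra F L] [FiniteDimensional F K] [Algebra.IsSeparable F K] [IsAlgClosed L] :
    Function.Bijective (piEmb F K L) := by
  refine ⟨?_, piEmb_surjective⟩
  have hdim : Module.finrank L (L ⊗[F] K) = Module.finrank L ((K →ₐ[F] L) → L) := by
    rw [Module.finrank_baseChange, Module.finrank_pi, ← Nat.card_eq_fintype_card,
      ← Field.finSepDegree_eq_of_isAlgClosed F K L, Field.finSepDegree_eq_finrank_of_isSeparable]
  exact (LinearMap.injective_iff_surjective_of_finrank_eq_finrank hdim
    (f := (piEmb F K L).toLinearMap)).2 piEmb_surjective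

theorem isSeparable_iff_pi (k : Type u) (K : Type v) (Ω : Type w)
    [Field k] [Field K] [Algebra k K] [FiniteDimensional k K]
    [Field Ω] [Algebra k Ω] [IsAlgClosed Ω] :
    Algebra.IsSeparable k K ↔ Nonempty ((Ω ⊗[k] K) ≃ₐ[Ω] (Fin (Module.finrank k K) → Ω)) := by
  classical
  constructor
  · intro h
    have hc : Fintype.card (K →ₐ[k] Ω) = Module.finrank k K := by
      rw [← Nat.card_eq_fintype_card, ← Field.finSepDegree_eq_of_isAlgClosed k K Ω,
        Field.finSepDegree_eq_finrank_of_isSeparable]
    exact ⟨(AlgEquiv.ofBijective _ piEmb_bijective).trans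
      (AlgEquiv.piCongrLeft Ω (fun _ => Ω) (Fintype.equivFinOfCardEq hc))⟩
  · rintro ⟨e⟩
    rw [← Field.finSepDegree_eq_finrank_iff]
    refine le_antisymm (Field.finSepDegree_le_finrank k K) ?_
    rw [Field.finSepDegree_eq_of_isAlgClosed k K Ω]
    let g : Fin (Module.finrank k K) → (K →ₐ[k] Ω) := fun i =>
      (((Pi.evalAlgHom Ω (fun _ => Ω) i).comp e.toAlgHom).restrictScalars k).comp
        Algebra.TensorProduct.includeRight
    have hg : Function.Injective g := by
      intro i j hij
      by_contra hne
      have h1 : (Pi.evalAlgHom Ω (fun _ => Ω) i).comp e.toAlgHom =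
          (Pi.evalAlgHom Ω (fun _ => Ω) j).comp e.toAlgHom :=
        Algebra.TensorProduct.ext (Subsingleton.elim _ _) hij
      have := AlgHom.congr_fun h1 (e.symm (Pi.single i 1))
      simp [Ne.symm hne] at this
    calc Module.finrank k K = Nat.card (Fin (Module.finrank k K)) := (Nat.card_fin _).symm
      _ ≤ Nat.card (K →ₐ[k] Ω) := Nat.card_le_card_of_injective g hg

theorem exists_surjective_piTensor {K L M : Type u} [Field K] [Field L] [Field M]
    [Algebra K L] [Algebra K M] [Algebra L M] [IsScalarTower K L M] [FiniteDimensional K L]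
    [IsNormalClosure K L M] :
    ∃ f : (⨂[K] _ : Fin (Field.finSepDegree K L), L) →ₐ[K] M, Function.Surjective f := by
  classical
  have hcard : Nat.card (L →ₐ[K] M) = Field.finSepDegree K L :=
    (Field.finSepDegree_eq_of_adjoin_splits K L M (S := Set.univ) (adjoin_univ K L) fun s _ =>
      ⟨IsIntegral.of_finite K s, IsNormalClosure.splits s⟩).symm
  let σ : Fin (Field.finSepDegree K L) ≃ (L →ₐ[K] M) := (Finite.equivFinOfCardEq hcard).symm
  let mult : MultilinearMap K (fun _ : Fin (Field.finSepDegree K L) => L) M :=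
    (MultilinearMap.mkPiAlgebra K (Fin (Field.finSepDegree K L)) M).compLinearMap
      fun i => (σ i).toLinearMap
  let f := PiTensorProduct.liftAlgHom mult (by simp [mult])
    (fun x y => by simp [mult, Finset.prod_mul_distrib])
  refine ⟨f, ?_⟩
  have hmem : ∀ (g : L →ₐ[K] M) (x : L), g x ∈ f.range := by
    intro g x
    refine ⟨PiTensorProduct.tprod K (Function.update (1 : Fin _ → L) (σ.symm g) x), ?_⟩
    show f (PiTensorProduct.tprod K _) = g x
    simp only [f, PiTensorProduct.liftAlgHom, AlgHom.ofLinearMap_apply, PiTensorProduct.lift.tprod]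
    simp only [mult, MultilinearMap.compLinearMap_apply, MultilinearMap.mkPiAlgebra_apply]
    rw [Finset.prod_eq_single (σ.symm g)]
    · simp
    · intro b _ hb; simp [Function.update_of_ne hb]
    · simp
  have : Normal K M := IsNormalClosure.normal (K := L)
  have halg : ∀ x ∈ f.range, x⁻¹ ∈ f.range := fun x hx =>
    f.range.inv_mem_of_algebraic (x := ⟨x, hx⟩) (Algebra.IsAlgebraic.isAlgebraic x)
  have htop := (Algebra.IsAlgebraic.isNormalClosure_iff.1 ‹IsNormalClosure K L M›).2
  have hle : IntermediateField.normalClosure K L M ≤ f.range.toIntermediateField halg := by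
    rw [normalClosure_le_iff]
    rintro g _ ⟨x, rfl⟩
    exact hmem g x
  intro y
  exact hle (htop ▸ trivial : y ∈ IntermediateField.normalClosure K L M)

end GrothLib.FieldExtra
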