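import Groth.Agent.Lib.SepField.Smooth
import Mathlib.RingTheory.Kaehler.JacobiZariski
import Mathlib.RingTheory.Flat.Basic
import Mathlib.LinearAlgebra.TensorProduct.Tower

/-!
Naturality of the Jacobi–Zariski connecting map in the top ring, and injectivity of
`M ⊗_L H1(L_{L/K}) → H1(L_{M/K})` for fields.
-/

universe u

open TensorProduct MvPolynomial

namespace GrothLib.FieldExtra

section naturality

variable (F K L M : Type u) [CommRing F] [CommRing K] [CommRing L] [CommRing M]
  [Algebra F K] [Algebra F L] [Algebra F M] [Algebra K L] [Algebra K M] [Algebra L M]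
  [IsScalarTower F K L] [IsScalarTower F K M] [IsScalarTower K L M]

noncomputable def topChange : L ⊗[K] Ω[K⁄F] →ₗ[L] M ⊗[K] Ω[K⁄F] :=
  TensorProduct.AlgebraTensorModule.map (Algebra.linearMap L M) LinearMap.id

@[simp] lemma topChange_tmul (l : L) (ω : Ω[K⁄F]) :
    topChange F K L M (l ⊗ₜ ω) = algebraMap L M l ⊗ₜ ω := rfl

open Algebra.Generators in
lemma δAux_defaultHom (x : (Algebra.Generators.self K L).Ring) :
    H1Cotangent.δAux F (Algebra.Generators.self K M)
      ((defaultHom (Algebra.Generators.self K L) (Algebra.Generators.self K M)).toAlgHom x) =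
    topChange F K L M (H1Cotangent.δAux F (Algebra.Generators.self K L) x) := by
  induction x using MvPolynomial.induction_on with
  | C a => simp [H1Cotangent.δAux_C]
  | add p q hp hq => simp [map_add, hp, hq]
  | mul_X p l hp =>
    rw [map_mul, H1Cotangent.δAux_mul, H1Cotangent.δAux_mul, Hom.toAlgHom_X, hp,
      show (defaultHom (Algebra.Generators.self K L) (Algebra.Generators.self K M)).val l =
        (X (algebraMap L M l) : MvPolynomial M K) from rfl,
      H1Cotangent.δAux_X, H1Cotangent.δAux_X, smul_zero, smul_zero, zero_add, zero_add]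
    induction H1Cotangent.δAux F (Algebra.Generators.self K L) p with
    | zero => simp
    | add a b ha hb => simp [map_add, smul_add, ha, hb]
    | tmul c ω =>
      simp [TensorProduct.smul_tmul', Algebra.smul_def, Algebra.Generators.algebraMap_apply]

lemma δ_map_algebraMap (z : Algebra.H1Cotangent K L) :
    Algebra.H1Cotangent.δ F K M (Algebra.H1Cotangent.map K K L M z) =
      topChange F K L M (Algebra.H1Cotangent.δ F K L z) := by
  obtain ⟨c, hc⟩ := z
  obtain ⟨x, rfl⟩ := Algebra.Extension.Cotangent.mk_surjective c
  rw [Algebra.H1Cotangent.map, Algebra.H1Cotangent.δ, Algebra.H1Cotangent.δ]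
  change Algebra.Generators.H1Cotangent.δ _ _ ⟨_, _⟩ = _
  simp only [LinearMap.domRestrict_apply, Algebra.Extension.Cotangent.map_mk,
    Algebra.Generators.H1Cotangent.δ_eq_δAux]
  exact δAux_defaultHom F K L M x.1

end naturality

variable (K L M : Type u) [Field K] [Field L] [Field M] [Algebra K L] [Algebra L M] [Algebra K M]
  [IsScalarTower K L M]

theorem h1Cotangent_liftBaseChange_injective :
    Function.Injective ((Algebra.H1Cotangent.map K K L M).liftBaseChange M) := by
  obtain h0 | ⟨p, hp, hpk⟩ := CharP.exists' K
  · haveI := SepField.formallySmooth_of_charZero (k := K) (K := L)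
    exact Function.injective_of_subsingleton _
  haveI : CharP L p := charP_of_injective_algebraMap (algebraMap K L).injective p
  haveI : CharP (SepField.PrimeFld.{u} p) p := charP_of_injective_ringHom
    (f := (ULift.ringEquiv.symm : ZMod p ≃+* SepField.PrimeFld.{u} p).toRingHom)
    ULift.ringEquiv.symm.injective p
  haveI : PerfectRing (SepField.PrimeFld.{u} p) p := PerfectRing.ofFiniteOfIsReduced p _
  let F := SepField.PrimeFld.{u} p
  letI : Algebra F K := ((ZMod.castHom (dvd_refl p) K).comp ULift.ringEquiv.toRingHom).toAlgebra
  letI : Algebra F L := ((algebraMap K L).comp (algebraMap F K)).toAlgebra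
  letI : Algebra F M := ((algebraMap K M).comp (algebraMap F K)).toAlgebra
  haveI : IsScalarTower F K L := IsScalarTower.of_algebraMap_eq fun _ => rfl
  haveI : IsScalarTower F K M := IsScalarTower.of_algebraMap_eq fun _ => rfl
  haveI : Algebra.FormallySmooth F L := SepField.formallySmooth_perfect p
  let d := Algebra.H1Cotangent.δ F K L
  have hd : Function.Injective d := by
    rw [← LinearMap.ker_eq_bot, (Algebra.H1Cotangent.exact_map_δ F K L).linearMap_ker_eq,
      LinearMap.range_eq_bot]
    exact LinearMap.ext fun z => by rw [Subsingleton.elim z 0, map_zero, map_zero]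
  have hd' : Function.Injective (d.baseChange M) :=
    Module.Flat.lTensor_preserves_injective_linearMap d hd
  let e := TensorProduct.AlgebraTensorModule.cancelBaseChange K L M M Ω[K⁄F]
  have he : ∀ m y, e (m ⊗ₜ[L] y) = m • topChange F K L M y := by
    intro m y
    induction y with
    | zero => simp
    | add a b ha hb => simp [tmul_add, map_add, smul_add, ha, hb]
    | tmul l ω => simp [e, TensorProduct.smul_tmul', Algebra.smul_def, mul_comm]
  have key : ∀ y, Algebra.H1Cotangent.δ F K M ((Algebra.H1Cotangent.map K K L M).liftBaseChange M y) =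
      e (d.baseChange M y) := by
    intro y
    induction y with
    | zero => simp
    | add a b ha hb => simp [map_add, ha, hb]
    | tmul m z => rw [LinearMap.liftBaseChange_tmul, map_smul, δ_map_algebraMap,
        LinearMap.baseChange_tmul, he]
  intro a b hab
  apply hd'
  apply e.injective
  rw [← key, ← key, hab]

end GrothLib.FieldExtra
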