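import Mathlib.FieldTheory.IsAlgClosed.Basic
import Mathlib.FieldTheory.Finite.Basic
import Mathlib.RingTheory.Artinian.Module
import Mathlib.LinearAlgebra.Basis.VectorSpace

/-! Semilinear Frobenius maps over algebraically closed fields (Lang). -/

namespace GrothLib.FieldExtra

universe u v

open Polynomial

section

variable {k : Type u} [Field k] {V : Type v} [AddCommGroup V] [Module k V] {q : ℕ}

theorem apply_sum_smul (φ : V →+ V) (hφ : ∀ (a : k) (v : V), φ (a • v) = a ^ q • φ v)
    {ι : Type*} (s : Finset ι) (c : ι → k) (f : ι → V) :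
    φ (∑ i ∈ s, c i • f i) = ∑ i ∈ s, c i ^ q • φ (f i) := by
  rw [map_sum]; exact Finset.sum_congr rfl fun i _ => hφ _ _

variable [IsAlgClosed k] [FiniteDimensional k V]

theorem exists_fixed_ne_zero (hq : 2 ≤ q) (hq0 : (q : k) = 0) (φ : V →+ V)
    (hφ : ∀ (a : k) (v : V), φ (a • v) = a ^ q • φ v) (hbij : Function.Bijective φ)
    {v : V} (hv : v ≠ 0) : ∃ w, w ≠ 0 ∧ φ w = w := by
  classical
  let f : ℕ → V := fun i => φ^[i] v
  have hfs : ∀ i, φ (f i) = f (i + 1) := fun i => (Function.iterate_succ_apply' φ i v).symm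
  have hex : ∃ n, ¬ LinearIndependent k (fun i : Fin (n + 1) => f i) :=
    ⟨Module.finrank k V, fun h => by simpa using h.fintype_card_le_finrank⟩
  set n := Nat.find hex
  have hn : LinearIndependent k (fun i : Fin n => f i) := by
    rcases Nat.eq_zero_or_pos n with h | h
    · exact h.symm ▸ linearIndependent_empty_type
    · have h' := Nat.find_min hex (show n - 1 < n by omega)
      rw [not_not, show n - 1 + 1 = n by omega] at h'
      exact h'
  obtain ⟨m, hm⟩ : ∃ m, n = m + 1 := by
    refine ⟨n - 1, (Nat.succ_pred_eq_of_pos (Nat.pos_of_ne_zero fun h => ?_)).symm⟩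
    have := Nat.find_spec hex
    rw [show Nat.find hex = 0 from h] at this
    exact this (linearIndependent_unique_iff (ι := Fin 1) (v := fun i : Fin 1 => f i) |>.2 (by simpa [f] using hv))
  have hdep : f n ∈ Submodule.span k (Set.range fun i : Fin n => f i) := by
    by_contra h
    refine Nat.find_spec hex ?_
    show LinearIndependent k (fun i : Fin (n + 1) => f i)
    rw [show (fun i : Fin (n + 1) => f i) = Fin.snoc (fun i : Fin n => f i) (f n) by
      funext i; refine Fin.lastCases ?_ (fun j => ?_) i <;> simp]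
    exact linearIndependent_finSnoc.2 ⟨hn, h⟩
  obtain ⟨a, ha⟩ := (Submodule.mem_span_range_iff_exists_fun k).1 hdep
  -- the recursion `x₀ = a₀ T^q`, `x_{i+1} = x_i^q + a_{i+1} T^q`
  let a' : ℕ → k := fun i => if h : i < n then a ⟨i, h⟩ else 0
  have ha' : ∑ i ∈ Finset.range n, a' i • f i = f n := by
    rw [← ha, Finset.sum_range]
    exact Finset.sum_congr rfl fun i _ => by simp [a', i.2]
  let P : ℕ → k[X] := fun i => Nat.rec (C (a' 0) * X ^ q)
    (fun i Q => Q ^ q + C (a' (i + 1)) * X ^ q) i
  have ha0 : a' 0 ≠ 0 := by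
    intro h0
    rw [hm] at ha'
    rw [Finset.sum_range_succ', h0, zero_smul, add_zero, ← hfs] at ha'
    choose r hr using fun i => IsAlgClosed.exists_pow_nat_eq (a' (i + 1)) (show 0 < q by omega)
    have h1 : φ (∑ i ∈ Finset.range m, r i • f i) = φ (f m) := by
      rw [apply_sum_smul φ hφ, ← ha']
      exact Finset.sum_congr rfl fun i _ => by rw [hr, hfs]
    have h2 := hbij.1 h1
    have h3 := Fintype.linearIndependent_iff.1 hn
      (fun i : Fin n => if (i : ℕ) < m then r i else -1) (by
        rw [← Finset.sum_range fun i => (if i < m then r i else -1) • f i, hm,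
          Finset.sum_range_succ, if_neg (lt_irrefl m), neg_smul, one_smul, add_neg_eq_zero, ← h2]
        exact Finset.sum_congr rfl fun i hi => by rw [if_pos (Finset.mem_range.1 hi)])
      ⟨m, by omega⟩
    simp at h3
  have hPdeg : ∀ i, i < n → (P i).natDegree = q ^ (i + 1) := by
    intro i
    induction i with
    | zero => intro _; simp [P, natDegree_C_mul_X_pow _ _ ha0]
    | succ i ih =>
      intro hi
      have h1 := ih (by omega)
      show (P i ^ q + C (a' (i + 1)) * X ^ q).natDegree = _
      have h2 : (P i ^ q).natDegree = q ^ (i + 1 + 1) := by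
        rw [natDegree_pow, h1, pow_succ' q (i + 1)]
      rw [natDegree_add_eq_left_of_natDegree_lt, h2]
      rw [h2]
      exact (natDegree_C_mul_X_pow_le _ _).trans_lt (by
        calc q = q ^ 1 := (pow_one q).symm
          _ < q ^ (i + 1 + 1) := Nat.pow_lt_pow_right hq (by omega))
  have hPder : ∀ i, derivative (P i) = 0 := by
    intro i
    cases i with
    | zero => simp [P, hq0, derivative_X_pow]
    | succ i =>
      show derivative (P i ^ q + C (a' (i + 1)) * X ^ q) = 0
      simp [derivative_pow, hq0]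
  set R := P m - X
  have hRdeg : R.natDegree = q ^ n := by
    rw [natDegree_sub_eq_left_of_natDegree_lt, hPdeg m (by omega), hm]
    rw [hPdeg m (by omega), natDegree_X]
    exact Nat.one_lt_pow (by omega) hq
  have hRsep : R.Separable := by
    rw [separable_def, derivative_sub, hPder, derivative_X, zero_sub]
    exact isCoprime_one_right.neg_right
  have hRne : R ≠ 0 := hRsep.ne_zero
  obtain ⟨t, htR, ht0⟩ : ∃ t, R.IsRoot t ∧ t ≠ 0 := by
    by_contra h
    push Not at h
    have hsub : R.roots.toFinset ⊆ {0} := fun t ht => by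
      simpa using h t (isRoot_of_mem_roots (Multiset.mem_toFinset.1 ht))
    have := Finset.card_le_card hsub
    rw [Multiset.toFinset_card_of_nodup (nodup_roots hRsep),
      ← (IsAlgClosed.splits R).natDegree_eq_card_roots, hRdeg, Finset.card_singleton] at this
    exact absurd this (not_le.2 (Nat.one_lt_pow (by omega) hq))
  let x : ℕ → k := fun i => (P i).eval t
  have hxm : x m = t := by
    rw [IsRoot, eval_sub, eval_X, sub_eq_zero] at htR
    exact htR
  refine ⟨∑ i ∈ Finset.range n, x i • f i, fun h => ?_, ?_⟩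
  · have := Fintype.linearIndependent_iff.1 hn (fun i : Fin n => x i)
      (by rw [← h, Finset.sum_range]) ⟨m, by omega⟩
    exact ht0 (hxm.symm.trans this)
  · rw [apply_sum_smul φ hφ]
    simp only [hfs]
    have hlast : x m ^ q • f n = ∑ i ∈ Finset.range n, (a' i * t ^ q) • f i := by
      rw [← ha', Finset.smul_sum, hxm]
      exact Finset.sum_congr rfl fun i _ => by rw [smul_smul, mul_comm]
    have hx0 : x 0 = a' 0 * t ^ q := by simp [x, P]
    have hxs : ∀ i, x (i + 1) = x i ^ q + a' (i + 1) * t ^ q := fun i => by simp [x, P]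
    rw [hm] at hlast ⊢
    rw [Finset.sum_range_succ, hlast, Finset.sum_range_succ' _ m, Finset.sum_range_succ' _ m,
      ← add_assoc, ← Finset.sum_add_distrib, hx0]
    congr 1
    exact Finset.sum_congr rfl fun i _ => by rw [hxs, add_smul]

theorem span_fixed_eq_top {V : Type v} [AddCommGroup V] [Module k V] [FiniteDimensional k V]
    (hq : 2 ≤ q) (hq0 : (q : k) = 0) (φ : V →+ V)
    (hφ : ∀ (a : k) (v : V), φ (a • v) = a ^ q • φ v) (hbij : Function.Bijective φ) :
    Submodule.span k {v : V | φ v = v} = ⊤ := by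
  classical
  set W := Submodule.span k {v : V | φ v = v}
  by_contra hW
  have hmap : ∀ w ∈ W, φ w ∈ W ∧ ∃ y ∈ W, φ y - y = w := by
    intro w hw
    induction hw using Submodule.span_induction with
    | mem x hx => exact ⟨by rw [show φ x = x from hx]; exact Submodule.subset_span hx, by
        obtain ⟨y, hy⟩ : ∃ y : k, y ^ q - y = 1 := by
          obtain ⟨y, hy⟩ := IsAlgClosed.exists_root (X ^ q - X - C (1 : k)) (by
            rw [sub_sub, degree_sub_eq_left_of_degree_lt] <;>
              simp only [degree_X_pow, degree_X_add_C]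
            · exact_mod_cast (by omega : q ≠ 0)
            · exact_mod_cast (by omega : 1 < q))
          exact ⟨y, by simpa [IsRoot, sub_eq_zero] using hy⟩
        exact ⟨y • x, Submodule.smul_mem _ _ (Submodule.subset_span hx), by
          rw [hφ, show φ x = x from hx, ← sub_smul, hy, one_smul]⟩⟩
    | zero => exact ⟨by simp, 0, zero_mem _, by simp⟩
    | add x y _ _ hx hy =>
      obtain ⟨hx1, x', hx', hx2⟩ := hx
      obtain ⟨hy1, y', hy', hy2⟩ := hy
      exact ⟨by rw [map_add]; exact add_mem hx1 hy1, x' + y', add_mem hx' hy', by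
        rw [map_add, ← hx2, ← hy2]; abel⟩
    | smul c x hxW hx =>
      obtain ⟨hx1, -⟩ := hx
      refine ⟨by rw [hφ]; exact Submodule.smul_mem _ _ hx1, ?_⟩
      obtain ⟨s, T, hs1, hs2, hs3⟩ := (Submodule.mem_span_iff_exists_finset_subset (R := k)).1 hxW
      choose y hy using fun b : V => IsAlgClosed.exists_root (X ^ q - X - C (c * s b)) (by
        rw [sub_sub, degree_sub_eq_left_of_degree_lt] <;>
          simp only [degree_X_pow, degree_X_add_C]
        · exact_mod_cast (by omega : q ≠ 0)
        · exact_mod_cast (by omega : 1 < q))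
      refine ⟨∑ b ∈ T, y b • b, Submodule.sum_mem _ fun b hb =>
        Submodule.smul_mem _ _ (Submodule.subset_span (hs1 hb)), ?_⟩
      rw [← hs3, apply_sum_smul φ hφ, ← Finset.sum_sub_distrib, Finset.smul_sum]
      refine Finset.sum_congr rfl fun b hb => ?_
      have h2 : y b ^ q - y b = c * s b := by simpa [IsRoot, sub_eq_zero] using hy b
      rw [show φ b = b from hs1 hb, ← sub_smul, h2, mul_smul]
  obtain ⟨v, hv⟩ : ∃ v, v ∉ W := by
    by_contra h
    push Not at h
    exact hW (eq_top_iff.2 fun v _ => h v)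
  let ψ : (V ⧸ W) →+ (V ⧸ W) :=
    QuotientAddGroup.lift W.toAddSubgroup (W.mkQ.toAddMonoidHom.comp φ) fun w hw => by
      show W.mkQ (φ w) = 0
      exact (Submodule.Quotient.mk_eq_zero W).2 (hmap w hw).1
  have hψm : ∀ x, ψ (W.mkQ x) = W.mkQ (φ x) := fun _ => rfl
  have hψbij : Function.Bijective ψ := by
    refine ⟨(injective_iff_map_eq_zero ψ).2 fun x hx => ?_, fun x => ?_⟩
    · obtain ⟨x, rfl⟩ := W.mkQ_surjective x
      rw [hψm, Submodule.mkQ_apply, Submodule.Quotient.mk_eq_zero] at hx
      obtain ⟨-, y, hy, hy'⟩ := hmap _ hx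
      have h1 : φ (y - x) = y := by
        rw [map_sub, ← hy']; abel
      have h2 : φ y ∈ W := (hmap y hy).1
      rw [Submodule.mkQ_apply, Submodule.Quotient.mk_eq_zero]
      have hz : ∀ w ∈ W, ∃ u ∈ W, φ u = w := by
        intro w hw
        induction hw using Submodule.span_induction with
        | mem u hu => exact ⟨u, Submodule.subset_span hu, hu⟩
        | zero => exact ⟨0, zero_mem _, map_zero _⟩
        | add a b _ _ ha hb =>
          obtain ⟨a', ha', rfl⟩ := ha
          obtain ⟨b', hb', rfl⟩ := hb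
          exact ⟨a' + b', add_mem ha' hb', map_add _ _ _⟩
        | smul c a _ ha =>
          obtain ⟨a', ha', rfl⟩ := ha
          obtain ⟨r, rfl⟩ := IsAlgClosed.exists_pow_nat_eq c (show 0 < q by omega)
          exact ⟨r • a', Submodule.smul_mem _ _ ha', hφ _ _⟩
      obtain ⟨u, hu, hu'⟩ := hz _ hx
      rw [← hbij.1 hu']
      exact hu
    · obtain ⟨x, rfl⟩ := W.mkQ_surjective x
      obtain ⟨y, rfl⟩ := hbij.2 x
      exact ⟨W.mkQ y, rfl⟩
  obtain ⟨w, hw0, hw⟩ := exists_fixed_ne_zero hq hq0 ψ (fun a x => by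
      obtain ⟨x, rfl⟩ := W.mkQ_surjective x
      rw [← map_smul, hψm, hψm, hφ, map_smul]) hψbij
    (v := W.mkQ v) (by simpa [Submodule.Quotient.mk_eq_zero] using hv)
  obtain ⟨w, rfl⟩ := W.mkQ_surjective w
  rw [hψm, Submodule.mkQ_apply, Submodule.mkQ_apply, Submodule.Quotient.eq] at hw
  obtain ⟨-, y, hy, hy'⟩ := hmap _ hw
  have hfix : φ (w - y) = w - y := by
    rw [map_sub, ← sub_eq_zero]
    rw [← sub_eq_zero] at hy'
    calc φ w - φ y - (w - y) = -(φ y - y - (φ w - w)) := by abel
      _ = 0 := by rw [hy', neg_zero]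
  refine hw0 ((Submodule.Quotient.mk_eq_zero W).2 ?_)
  have := add_mem (Submodule.subset_span (R := k) (show w - y ∈ {v : V | φ v = v} from hfix)) hy
  simpa using this

theorem exists_basis_fixed (hq : 2 ≤ q) (hq0 : (q : k) = 0) (φ : V →+ V)
    (hφ : ∀ (a : k) (v : V), φ (a • v) = a ^ q • φ v) (hbij : Function.Bijective φ) :
    ∃ (ι : Type v) (b : Module.Basis ι k V), ∀ i, φ (b i) = b i := by
  have hspan := span_fixed_eq_top hq hq0 φ hφ hbij
  refine ⟨_, Module.Basis.ofSpan hspan.ge, fun i => ?_⟩
  exact Module.Basis.ofSpan_subset hspan.ge ⟨i, rfl⟩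

theorem isCompl_fixed_nilpotent (hq : 2 ≤ q) (hq0 : (q : k) = 0) (φ : V →+ V)
    (hφ : ∀ (a : k) (v : V), φ (a • v) = a ^ q • φ v) :
    IsCompl (Submodule.span k {v : V | φ v = v})
      (Submodule.span k {v : V | ∃ m : ℕ, (⇑φ)^[m] v = 0}) := by
  have hit : ∀ (m : ℕ) (a : k) (v : V), φ^[m] (a • v) = a ^ q ^ m • φ^[m] v := by
    intro m
    induction m with
    | zero => intro a v; simp
    | succ m ih =>
      intro a v
      rw [Function.iterate_succ_apply', ih, hφ, ← pow_mul, ← pow_succ,
        Function.iterate_succ_apply']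
  let K : ℕ →o Submodule k V :=
    ⟨fun m =>
      { carrier := {v | φ^[m] v = 0}
        add_mem' := fun {a b} ha hb => by
          simp only [Set.mem_setOf_eq, iterate_map_add] at *; simp [ha, hb]
        zero_mem' := iterate_map_zero φ m
        smul_mem' := fun a v hv => by
          simp only [Set.mem_setOf_eq] at *; rw [hit, hv, smul_zero] },
      monotone_nat_of_le_succ fun m v hv => by
        show φ^[m + 1] v = 0
        rw [Function.iterate_succ_apply', show φ^[m] v = 0 from hv, map_zero]⟩
  let Rg : ℕ →o (Submodule k V)ᵒᵈ :=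
    ⟨fun m => OrderDual.toDual
      { carrier := Set.range (φ^[m])
        add_mem' := by
          rintro _ _ ⟨a, rfl⟩ ⟨b, rfl⟩; exact ⟨a + b, iterate_map_add φ m a b⟩
        zero_mem' := ⟨0, iterate_map_zero φ m⟩
        smul_mem' := by
          rintro c _ ⟨a, rfl⟩
          obtain ⟨r, rfl⟩ := IsAlgClosed.exists_pow_nat_eq c (show 0 < q ^ m by positivity)
          exact ⟨r • a, hit m r a⟩ },
      monotone_nat_of_le_succ fun m v hv => by
        obtain ⟨w, rfl⟩ := hv
        exact ⟨φ w, rfl⟩⟩
  obtain ⟨n₁, hn₁⟩ := monotone_stabilizes_iff_noetherian.2 (inferInstance : IsNoetherian k V) K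
  obtain ⟨n₂, hn₂⟩ := IsArtinian.monotone_stabilizes Rg
  set n := max n₁ n₂ + 1
  have hK : ∀ m, n ≤ m → ∀ v, φ^[m] v = 0 → φ^[n] v = 0 := fun m hm v hv => by
    have : v ∈ K m := hv
    rw [← hn₁ m (by omega), hn₁ n (by omega)] at this
    exact this
  have hR : ∀ m, n ≤ m → ∀ v, v ∈ Set.range (φ^[n]) → v ∈ Set.range (φ^[m]) := fun m hm v hv => by
    have h1 : v ∈ OrderDual.ofDual (Rg n) := hv
    rw [← hn₂ n (by omega), hn₂ m (by omega)] at h1
    exact h1
  set W : Submodule k V := OrderDual.ofDual (Rg n)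
  have hW : ∀ v ∈ W, φ v ∈ W := fun v hv => by
    obtain ⟨w, rfl⟩ := hv
    exact ⟨φ w, by rw [← Function.iterate_succ_apply, Function.iterate_succ_apply']⟩
  let ψ : W →+ W := (φ.comp W.subtype.toAddMonoidHom).codRestrict W.toAddSubgroup fun v => hW v v.2
  have hψv : ∀ v : W, (ψ v : V) = φ v := fun _ => rfl
  have hψ : Function.Bijective ψ := by
    refine ⟨(injective_iff_map_eq_zero ψ).2 fun v hv => ?_, fun v => ?_⟩
    · obtain ⟨w, hw⟩ := v.2
      have h1 : φ^[n + 1] w = 0 := by
        rw [Function.iterate_succ_apply', hw, ← hψv, hv]; rfl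
      exact Subtype.ext (hw.symm.trans (hK (n + 1) (by omega) w h1))
    · obtain ⟨w, hw⟩ := hR (n + 1) (by omega) v v.2
      exact ⟨⟨φ^[n] w, w, rfl⟩, Subtype.ext (by rw [hψv]; exact (Function.iterate_succ_apply' φ n w).symm.trans hw)⟩
  have hspanW : Submodule.span k {v : V | φ v = v} = W := by
    refine le_antisymm (Submodule.span_le.2 fun v hv => ⟨v, Function.iterate_fixed hv n⟩) ?_
    have h := span_fixed_eq_top (V := W) hq hq0 ψ
      (fun a v => Subtype.ext (by rw [hψv]; exact hφ a v)) hψ
    intro v hv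
    have h1 : v ∈ (Submodule.span k {x : W | ψ x = x}).map W.subtype := by
      rw [h, Submodule.map_top, Submodule.range_subtype]; exact hv
    rw [Submodule.map_span] at h1
    refine Submodule.span_mono ?_ h1
    rintro _ ⟨x, hx, rfl⟩
    exact congrArg Subtype.val hx
  have hspanK : Submodule.span k {v : V | ∃ m : ℕ, (⇑φ)^[m] v = 0} = K n := by
    refine le_antisymm (Submodule.span_le.2 ?_) fun v hv => Submodule.subset_span ⟨n, hv⟩
    rintro v ⟨m, hm⟩
    exact hK (max m n) (le_max_right m n) v (K.monotone (le_max_left m n) hm)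
  rw [hspanW, hspanK, isCompl_iff]
  refine ⟨Submodule.disjoint_def.2 fun v hv hv' => ?_, codisjoint_iff.2 (eq_top_iff.2 fun v _ => ?_)⟩
  · obtain ⟨w, rfl⟩ := hv
    exact hK (n + n) (by omega) w (by rw [Function.iterate_add_apply]; exact hv')
  · obtain ⟨w, hw⟩ := hR (n + n) (by omega) _ ⟨v, rfl⟩
    refine Submodule.mem_sup.2 ⟨φ^[n] w, ⟨w, rfl⟩, v - φ^[n] w, ?_, by abel⟩
    show φ^[n] (v - φ^[n] w) = 0
    rw [iterate_map_sub, ← Function.iterate_add_apply, hw, sub_self]

end

theorem linearIndependent_fixed (p : ℕ) [Fact p.Prime] {k : Type u} [Field k] [CharP k p]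
    {V : Type v} [AddCommGroup V] [Module k V] (φ : V →+ V)
    (hφ : ∀ (a : k) (v : V), φ (a • v) = a ^ p • φ v) (s : Finset V) (hs : ∀ v ∈ s, φ v = v)
    (hrel : ∀ c : s → ℤ, (∑ v : s, c v • (v : V)) = 0 → ∀ v : s, (p : ℤ) ∣ c v) :
    LinearIndependent k (fun v : s => (v : V)) := by
  classical
  have key : ∀ t : Finset s, LinearIndepOn k (fun v : s => (v : V)) (t : Set s) := by
    intro t
    induction t using Finset.induction_on with
    | empty => simp
    | insert w t hw ih =>
      rw [Finset.coe_insert]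
      refine (linearIndepOn_insert (by simpa using hw)).2 ⟨ih, fun hmem => ?_⟩
      obtain ⟨c, hc⟩ : ∃ c : s → k, ∑ v ∈ t, c v • (v : V) = (w : V) := by
        rw [Submodule.mem_span_image_iff_exists_fun] at hmem
        obtain ⟨u, hu, c, hc⟩ := hmem
        refine ⟨fun v => if h : v ∈ u then c ⟨v, h⟩ else 0, ?_⟩
        rw [← Finset.sum_subset (Finset.coe_subset.1 hu) (fun v _ h => by simp [h]), ← hc,
          ← Finset.sum_coe_sort u]
        exact Finset.sum_congr rfl fun v _ => by simp [v.2]
      have hpow : ∀ v ∈ t, c v ^ p - c v = 0 := by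
        intro v hv
        refine linearIndepOn_finset_iff.1 ih (fun v => c v ^ p - c v) ?_ v hv
        have h1 : ∑ v ∈ t, c v ^ p • (v : V) = (w : V) := by
          rw [← hs w w.2, ← hc, apply_sum_smul φ hφ]
          exact Finset.sum_congr rfl fun v _ => by rw [hs v v.2]
        simp only [sub_smul, Finset.sum_sub_distrib, h1, hc, sub_self]
      have hint : ∀ v ∈ t, ∃ z : ℤ, (z : k) = c v := by
        intro v hv
        have h1 := (Subfield.mem_bot_iff_pow_eq_self (F := k) (p := p)).2 (sub_eq_zero.1 (hpow v hv))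
        rw [← ZMod.fieldRange_castHom_eq_bot p] at h1
        obtain ⟨z, hz⟩ := h1
        exact ⟨(z.val : ℤ), by rw [← hz]; simp [ZMod.natCast_val]⟩
      choose z hz using hint
      let d : s → ℤ := fun v => if h : v ∈ t then z v h else if v = w then -1 else 0
      have hd : ∑ v : s, d v • (v : V) = 0 := by
        rw [← Finset.sum_subset (Finset.subset_univ (insert w t)) (fun v _ hv => by
          simp only [Finset.mem_insert, not_or] at hv; simp [d, hv.1, hv.2]),
          Finset.sum_insert hw]
        have hdw : d w = -1 := by simp [d, hw]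
        have hdt : ∑ v ∈ t, d v • (v : V) = (w : V) := by
          rw [← hc]
          exact Finset.sum_congr rfl fun v hv => by
            rw [← Int.cast_smul_eq_zsmul k]; simp [d, hv, hz]
        rw [hdt, hdw, neg_smul, one_smul, neg_add_cancel]
      have h2 := hrel d hd w
      have hdw : d w = -1 := by simp [d, hw]
      rw [hdw, dvd_neg] at h2
      exact (Fact.out : p.Prime).one_lt.ne' (by exact_mod_cast Int.eq_one_of_dvd_one (by positivity) h2)
  have := key Finset.univ
  rwa [Finset.coe_univ, linearIndepOn_univ] at this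

end GrothLib.FieldExtra
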