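import Mathlib.FieldTheory.PurelyInseparable.Basic
import Mathlib.FieldTheory.IsAlgClosed.AlgebraicClosure
import Mathlib.FieldTheory.AlgebraicClosure
import Mathlib.FieldTheory.Minpoly.IsConjRoot
import Mathlib.RingTheory.Polynomial.Cyclotomic.Roots
import Mathlib.FieldTheory.Finite.Basic
import Mathlib.Data.Nat.Totient

/-! Field extensions in which every element has a power in the base. -/

namespace GrothLib.FieldExtra

universe u

open Polynomial

/-- A bound on `n` in terms of `φ n`. -/
theorem dvd_factorial_of_totient_le {n d : ℕ} (hn : 0 < n) (hd : n.totient ≤ d) :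
    n ∣ (2 * d).factorial := by
  rw [Nat.dvd_iff_prime_pow_dvd_dvd]
  intro p a hp hpa
  rcases Nat.eq_zero_or_pos a with rfl | ha
  · simp
  refine Nat.dvd_factorial (pow_pos hp.pos a) ?_
  have h1 : (p ^ a).totient ≤ n.totient :=
    Nat.le_of_dvd (Nat.totient_pos.2 hn) (Nat.totient_dvd_of_dvd hpa)
  rw [Nat.totient_prime_pow hp ha] at h1
  obtain ⟨b, rfl⟩ : ∃ b, a = b + 1 := ⟨a - 1, by omega⟩
  have h2 : p ≤ 2 * (p - 1) := by have := hp.two_le; omega
  calc p ^ (b + 1) = p ^ b * p := pow_succ p b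
    _ ≤ p ^ b * (2 * (p - 1)) := Nat.mul_le_mul_left _ h2
    _ = 2 * (p ^ b * (p - 1)) := by ring
    _ ≤ 2 * d := Nat.mul_le_mul_left _ (by simpa using h1.trans hd)

theorem finite_rootsOfUnity_of_finiteDimensional {Ω : Type u} [Field Ω] [CharZero Ω]
    (F : IntermediateField ℚ Ω) [FiniteDimensional ℚ F] :
    {z : Ω | z ∈ F ∧ ∃ n, 0 < n ∧ z ^ n = 1}.Finite := by
  set N := (2 * Module.finrank ℚ F).factorial
  refine (nthRootsFinset N (1 : Ω)).finite_toSet.subset ?_
  rintro z ⟨hzF, n, hn, hz⟩
  rw [Finset.mem_coe, mem_nthRootsFinset (Nat.factorial_pos _), ← orderOf_dvd_iff_pow_eq_one]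
  have hpos : 0 < orderOf z := (isOfFinOrder_iff_pow_eq_one.2 ⟨n, hn, hz⟩).orderOf_pos
  refine dvd_factorial_of_totient_le hpos ?_
  rw [← natDegree_cyclotomic (orderOf z) ℚ, cyclotomic_eq_minpoly_rat (IsPrimitiveRoot.orderOf z) hpos,
    show z = algebraMap F Ω ⟨z, hzF⟩ from rfl,
    minpoly.algebraMap_eq (algebraMap F Ω).injective]
  exact minpoly.natDegree_le _

theorem exists_conj_ne {k k' : Type u} [Field k] [Field k'] [Algebra k k'] [Algebra.IsAlgebraic k k']
    {α : k'} (hα : IsSeparable k α) (hne : α ∉ Set.range (algebraMap k k')) :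
    ∃ τ : k' →ₐ[k] AlgebraicClosure k', τ α ≠ algebraMap k' (AlgebraicClosure k') α := by
  set Ω := AlgebraicClosure k'
  set ια := algebraMap k' Ω α
  have hint : IsIntegral k α := hα.isIntegral
  have hmin : minpoly k ια = minpoly k α := minpoly.algebraMap_eq (algebraMap k' Ω).injective α
  have hcard : 1 < ((minpoly k α).rootSet Ω).ncard := by
    rw [← Nat.card_coe_set_eq, Nat.card_eq_fintype_card,
      card_rootSet_eq_natDegree hα (IsAlgClosed.splits _)]
    refine lt_of_le_of_ne (minpoly.natDegree_pos hint) fun h => hne ?_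
    exact minpoly.natDegree_eq_one_iff.1 h.symm
  obtain ⟨β, hβ, hβne⟩ := Set.exists_ne_of_one_lt_ncard hcard ια
  have : Normal k Ω := IsAlgClosure.normal k Ω
  obtain ⟨σ, hσ⟩ := minpoly.exists_algEquiv_of_root' (K := k) (x := β) (y := ια)
    (IsAlgebraic.algebraMap (R := k) (A := Ω) (Algebra.IsAlgebraic.isAlgebraic α))
    (by rw [hmin]; exact (mem_rootSet.1 hβ).2)
  exact ⟨σ.toAlgHom.comp (IsScalarTower.toAlgHom k k' Ω), fun h => hβne (by rw [← hσ]; exact h)⟩

theorem exists_ratio {k k' Ω : Type u} [Field k] [Field k'] [Field Ω] [Algebra k k'] [Algebra k Ω]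
    [Algebra k' Ω] [IsScalarTower k k' Ω] (τ : k' →ₐ[k] Ω) {α : k'}
    (hpow : ∀ x : k', ∃ n : ℕ, 0 < n ∧ x ^ n ∈ Set.range (algebraMap k k'))
    (hne : α ∉ Set.range (algebraMap k k')) (c : k) :
    ∃ ζ : Ω, (∃ n, 0 < n ∧ ζ ^ n = 1) ∧
      τ α + algebraMap k Ω c = ζ * (algebraMap k' Ω α + algebraMap k Ω c) := by
  obtain ⟨n, hn, b, hb⟩ := hpow (α + algebraMap k k' c)
  have h0 : algebraMap k' Ω α + algebraMap k Ω c ≠ 0 := by
    rw [IsScalarTower.algebraMap_apply k k' Ω, ← map_add]
    refine (_root_.map_ne_zero _).2 fun h => hne ⟨-c, ?_⟩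
    rw [map_neg, ← sub_eq_zero, ← neg_eq_zero]; rw [← h]; ring
  refine ⟨_, ⟨n, hn, ?_⟩, (div_mul_cancel₀ _ h0).symm⟩
  rw [div_pow, div_eq_one_iff_eq (pow_ne_zero _ h0), IsScalarTower.algebraMap_apply k k' Ω, ← map_add,
    ← map_pow, ← hb, ← IsScalarTower.algebraMap_apply, ← IsScalarTower.algebraMap_apply,
    ← τ.commutes c, ← map_add, ← map_pow, ← hb, τ.commutes]

theorem pow_mem_range_iff {k k' : Type u} [Field k] [Field k'] [Algebra k k'] :
    (∀ x : k', ∃ n : ℕ, 0 < n ∧ x ^ n ∈ Set.range (algebraMap k k')) ↔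
      Function.Surjective (algebraMap k k') ∨
        ∃ p : ℕ, p.Prime ∧ CharP k' p ∧
          (IsPurelyInseparable k k' ∨ Algebra.IsAlgebraic (⊥ : Subfield k') k') := by
  classical
  constructor
  · intro hpow
    by_cases hs : Function.Surjective (algebraMap k k')
    · exact Or.inl hs
    right
    have halg : Algebra.IsAlgebraic k k' := ⟨fun x => by
      obtain ⟨n, hn, b, hb⟩ := hpow x
      exact ⟨X ^ n - C b, X_pow_sub_C_ne_zero hn b, by simp [hb]⟩⟩
    set Ω := AlgebraicClosure k'
    set ι := algebraMap k' Ω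
    obtain ⟨p, hp⟩ := CharP.exists k'
    rcases CharP.char_is_prime_or_zero k' p with hpp | rfl
    · refine ⟨p, hpp, hp, ?_⟩
      by_cases hpi : IsPurelyInseparable k k'
      · exact Or.inl hpi
      right
      obtain ⟨α, hα, hne⟩ : ∃ α : k', IsSeparable k α ∧ α ∉ Set.range (algebraMap k k') := by
        rw [isPurelyInseparable_iff] at hpi
        push Not at hpi
        obtain ⟨α, hα⟩ := hpi
        exact ⟨α, hα (Algebra.IsIntegral.isIntegral α)⟩
      obtain ⟨τ, hτ⟩ := exists_conj_ne hα hne
      let P : IntermediateField (⊥ : Subfield k') Ω := algebraicClosure (⊥ : Subfield k') Ω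
      have hroot : ∀ ζ : Ω, (∃ n, 0 < n ∧ ζ ^ n = 1) → ζ ∈ P := fun ζ ⟨n, hn, hz⟩ =>
        mem_algebraicClosure_iff.2 ⟨X ^ n - C 1, X_pow_sub_C_ne_zero hn 1, by simp [hz]⟩
      obtain ⟨ζ0, hζ0, e0⟩ := exists_ratio τ hpow hne 0
      simp only [map_zero, add_zero] at e0
      have h0 : ∀ c : k, c ≠ 0 → (ι α ∈ P ↔ algebraMap k Ω c ∈ P) := by
        intro c hc
        obtain ⟨ζ, hζ, e⟩ := exists_ratio τ hpow hne c
        have hc' : algebraMap k Ω c ≠ 0 := (_root_.map_ne_zero _).2 hc
        have e1 : algebraMap k Ω c * (1 - ζ) = ι α * (ζ - ζ0) := by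
          rw [e0] at e; linear_combination e
        have h1 : 1 - ζ ≠ 0 := fun h => hτ (by
          rw [← sub_eq_zero.1 h, one_mul] at e
          exact add_right_cancel e)
        have h2 : ζ - ζ0 ≠ 0 := fun h => by
          rw [h, mul_zero] at e1
          exact mul_ne_zero hc' h1 e1
        refine ⟨fun h => ?_, fun h => ?_⟩
        · rw [show algebraMap k Ω c = ι α * (ζ - ζ0) / (1 - ζ) from by rw [← e1, mul_div_cancel_right₀ _ h1]]
          exact div_mem (mul_mem h (sub_mem (hroot _ hζ) (hroot _ hζ0))) (sub_mem (one_mem _) (hroot _ hζ))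
        · rw [show ι α = algebraMap k Ω c * (1 - ζ) / (ζ - ζ0) from by rw [e1, mul_div_cancel_right₀ _ h2]]
          exact div_mem (mul_mem h (sub_mem (one_mem _) (hroot _ hζ))) (sub_mem (hroot _ hζ) (hroot _ hζ0))
      have hαP : ι α ∈ P := (h0 1 one_ne_zero).2 (by rw [map_one]; exact one_mem _)
      have hk : ∀ c : k, algebraMap k Ω c ∈ P := fun c => by
        rcases eq_or_ne c 0 with rfl | hc
        · rw [map_zero]; exact zero_mem _
        · exact (h0 c hc).1 hαP
      refine ⟨fun x => ?_⟩
      obtain ⟨n, hn, b, hb⟩ := hpow x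
      have h1 : IsIntegral (⊥ : Subfield k') (ι x ^ n) := by
        rw [← map_pow, ← hb, ← IsScalarTower.algebraMap_apply]
        exact (mem_algebraicClosure_iff.1 (hk b)).isIntegral
      exact ((isIntegral_algebraMap_iff ι.injective).1 (IsIntegral.of_pow hn h1)).isAlgebraic
    · exfalso
      have : CharZero k' := CharP.charP_to_charZero k'
      have : CharZero k := (algebraMap k k').charZero
      obtain ⟨α, hne⟩ : ∃ α : k', α ∉ Set.range (algebraMap k k') := by
        by_contra h
        push Not at h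
        exact hs h
      obtain ⟨τ, hτ⟩ := exists_conj_ne (Algebra.IsSeparable.isSeparable k α) hne
      have hrint : ∀ ζ : Ω, (∃ n, 0 < n ∧ ζ ^ n = 1) → IsIntegral ℚ ζ := fun ζ ⟨n, hn, hz⟩ =>
        IsIntegral.of_pow hn (hz.symm ▸ isIntegral_one)
      obtain ⟨ζ0, hζ0, e0⟩ := exists_ratio τ hpow hne 0
      obtain ⟨ζ1, hζ1, e1⟩ := exists_ratio τ hpow hne 1
      simp only [map_zero, add_zero, map_one] at e0 e1
      let Pq : IntermediateField ℚ Ω := algebraicClosure ℚ Ω
      have hm : ∀ ζ : Ω, (∃ n, 0 < n ∧ ζ ^ n = 1) → ζ ∈ Pq := fun ζ h =>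
        mem_algebraicClosure_iff.2 (hrint ζ h).isAlgebraic
      have h10 : ζ1 - ζ0 ≠ 0 := fun h => by
        rw [sub_eq_zero] at h; subst h
        have h2 : (1 : Ω) = ζ1 := by linear_combination e1 - e0
        rw [← h2, one_mul] at e0
        exact hτ e0
      have hαP : ι α ∈ Pq := by
        have e2 : ι α * (ζ1 - ζ0) = 1 - ζ1 := by rw [e0] at e1; linear_combination -e1
        rw [show ι α = (1 - ζ1) / (ζ1 - ζ0) from by rw [← e2, mul_div_cancel_right₀ _ h10]]
        exact div_mem (sub_mem (one_mem _) (hm _ hζ1)) (sub_mem (hm _ hζ1) (hm _ hζ0))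
      have hβP : τ α ∈ Pq := by rw [e0]; exact mul_mem (hm _ hζ0) hαP
      set F := IntermediateField.adjoin ℚ ({ι α, τ α} : Set Ω)
      have : FiniteDimensional ℚ F := IntermediateField.finiteDimensional_adjoin (S := {ι α, τ α})
        (by rintro x (rfl | rfl)
            · exact (mem_algebraicClosure_iff.1 hαP).isIntegral
            · exact (mem_algebraicClosure_iff.1 hβP).isIntegral)
      choose ζ hζ hζe using fun c : ℕ => exists_ratio τ hpow hne (c : k)
      simp only [map_natCast] at hζe
      have hden : ∀ c : ℕ, ι α + (c : Ω) ≠ 0 := fun c => by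
        rw [← map_natCast ι, ← map_add]
        refine (_root_.map_ne_zero _).2 fun h => hne ⟨-(c : k), ?_⟩
        rw [map_neg, map_natCast]; linear_combination -h
      have hF : ∀ c, ζ c ∈ F := fun c => by
        rw [show ζ c = (τ α + c) / (ι α + c) from by rw [hζe c, mul_div_cancel_right₀ _ (hden c)]]
        exact div_mem (add_mem (IntermediateField.subset_adjoin ℚ _ (by simp)) (natCast_mem _ _))
          (add_mem (IntermediateField.subset_adjoin ℚ _ (by simp)) (natCast_mem _ _))
      have hinj : Function.Injective ζ := by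
        intro c d h
        have hc := hζe c
        have hd := hζe d
        rw [h] at hc
        have h2 : ((c : Ω) - d) * (1 - ζ d) = 0 := by linear_combination hc - hd
        rcases mul_eq_zero.1 h2 with h3 | h3
        · exact_mod_cast sub_eq_zero.1 h3
        · rw [← sub_eq_zero.1 h3, one_mul] at hd
          exact absurd (add_right_cancel hd) hτ
      exact Set.infinite_univ (Set.Finite.of_finite_image
        ((finite_rootsOfUnity_of_finiteDimensional F).subset
          (by rintro _ ⟨c, -, rfl⟩; exact ⟨hF c, hζ c⟩ : ζ '' Set.univ ⊆ _)) hinj.injOn)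
  · rintro (hs | ⟨p, hp, hc, h⟩) x
    · exact ⟨1, one_pos, by rw [pow_one]; exact hs x⟩
    · have : Fact p.Prime := ⟨hp⟩
      rcases h with h | h
      · have : CharP k p := (algebraMap k k').charP (algebraMap k k').injective p
        have : ExpChar k p := ExpChar.prime hp
        obtain ⟨n, hn⟩ := IsPurelyInseparable.pow_mem k p x
        exact ⟨p ^ n, pow_pos hp.pos n, hn⟩
      · rcases eq_or_ne x 0 with rfl | hx
        · exact ⟨1, one_pos, 0, by simp⟩
        set B : Subfield k' := ⊥
        have hBfin : Finite B := by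
          rw [show B = (ZMod.castHom (dvd_refl p) k').fieldRange from
            (ZMod.fieldRange_castHom_eq_bot p).symm]
          exact Finite.of_surjective _ (RingHom.rangeRestrict_surjective _)
        set E := IntermediateField.adjoin B ({x} : Set k')
        have : FiniteDimensional B E :=
          IntermediateField.adjoin.finiteDimensional (h.isAlgebraic x).isIntegral
        have : Finite E := Module.finite_of_finite B
        let _ : Fintype E := Fintype.ofFinite E
        refine ⟨Fintype.card E - 1, by have := Fintype.one_lt_card (α := E); omega, 1, ?_⟩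
        rw [map_one]
        exact (congrArg Subtype.val (FiniteField.pow_card_sub_one_eq_one
          (⟨x, IntermediateField.mem_adjoin_simple_self B x⟩ : E)
          fun h => hx (congrArg Subtype.val h))).symm

end GrothLib.FieldExtra
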