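import Mathlib.FieldTheory.PurelyInseparable.Basic
import Mathlib.RingTheory.Spectrum.Prime.Basic
import Mathlib.RingTheory.Spectrum.Prime.RingHom
import Mathlib.RingTheory.Flat.FaithfullyFlat.Basic
import Mathlib.RingTheory.LocalRing.ResidueField.Ideal
import Mathlib.RingTheory.TensorProduct.Basic
import Mathlib.Algebra.CharP.Reduced

/-!
# Radicial ring maps through maps into fields
-/

universe u

open TensorProduct

namespace GrothLib.FieldExtra

/-- Maps into fields are determined by their restriction. -/
def IsRadicial (R S : Type u) [CommRing R] [CommRing S] [Algebra R S] : Prop :=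
  ∀ (K : Type u) [Field K] (f g : S →+* K),
    f.comp (algebraMap R S) = g.comp (algebraMap R S) → f = g

variable {R S R' : Type u} [CommRing R] [CommRing S] [CommRing R'] [Algebra R S] [Algebra R R']

theorem isRadicial_of_comap_injective
    (hinj : Function.Injective (PrimeSpectrum.comap (algebraMap R S)))
    (hpi : ∀ (q : Ideal S) [q.IsPrime] (x : q.ResidueField), ∃ n : ℕ,
      x ^ (ringExpChar (q.comap (algebraMap R S)).ResidueField) ^ n ∈
        Set.range (Ideal.ResidueField.map (q.comap (algebraMap R S)) q (algebraMap R S) rfl)) :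
    IsRadicial R S := by
  intro K _ f g h
  have hker : RingHom.ker g = RingHom.ker f := by
    have : PrimeSpectrum.comap (algebraMap R S) ⟨RingHom.ker g, RingHom.ker_isPrime g⟩ =
        PrimeSpectrum.comap (algebraMap R S) ⟨RingHom.ker f, RingHom.ker_isPrime f⟩ := by
      refine PrimeSpectrum.ext ?_
      simp only [PrimeSpectrum.comap_asIdeal, RingHom.comap_ker, h]
    exact congrArg PrimeSpectrum.asIdeal (hinj this)
  set q := RingHom.ker f with hq
  have : q.IsPrime := RingHom.ker_isPrime f
  let F := Ideal.ResidueField.lift q f le_rfl (fun x hx => isUnit_iff_ne_zero.2 fun h0 => hx h0)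
  let G := Ideal.ResidueField.lift q g hker.ge
    (fun x hx => isUnit_iff_ne_zero.2 fun h0 => hx (hker.le h0))
  set p := q.comap (algebraMap R S)
  set ι := Ideal.ResidueField.map p q (algebraMap R S) rfl
  have hι : F.comp ι = G.comp ι := by
    refine Ideal.ResidueField.ringHom_ext ?_
    refine RingHom.ext fun r => ?_
    simp only [RingHom.comp_apply, ι, Ideal.ResidueField.map_algebraMap, F, G,
      Ideal.ResidueField.lift_algebraMap]
    exact RingHom.congr_fun h r
  have hFG : F = G := RingHom.ext fun x => by
    obtain ⟨n, y, hy⟩ := hpi q x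
    let e := ringExpChar p.ResidueField
    have : ExpChar K e := expChar_of_injective_ringHom (F.comp ι).injective e
    refine iterateFrobenius_inj K e n ?_
    show iterateFrobenius K e n (F x) = iterateFrobenius K e n (G x)
    rw [iterateFrobenius_def, iterateFrobenius_def, ← map_pow, ← map_pow, ← hy]
    exact RingHom.congr_fun hι y
  refine RingHom.ext fun s => ?_
  have := RingHom.congr_fun hFG (algebraMap S q.ResidueField s)
  simpa only [F, G, Ideal.ResidueField.lift_algebraMap] using this

theorem IsRadicial.baseChange (h : IsRadicial R S) : IsRadicial R' (R' ⊗[R] S) := by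
  intro K _ f g hfg
  have hS : f.comp (Algebra.TensorProduct.includeRight : S →ₐ[R] R' ⊗[R] S).toRingHom =
      g.comp (Algebra.TensorProduct.includeRight : S →ₐ[R] R' ⊗[R] S).toRingHom := by
    refine h K _ _ (RingHom.ext fun r => ?_)
    simp only [RingHom.comp_apply, AlgHom.toRingHom_eq_coe, RingHom.coe_coe, AlgHom.commutes]
    rw [IsScalarTower.algebraMap_apply R R' (R' ⊗[R] S)]
    exact RingHom.congr_fun hfg _
  refine RingHom.ext fun x => ?_
  induction x using TensorProduct.induction_on with
  | zero => simp
  | add a b ha hb => rw [map_add, map_add, ha, hb]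
  | tmul a b =>
    rw [show a ⊗ₜ[R] b = algebraMap R' (R' ⊗[R] S) a * (1 ⊗ₜ[R] b) by
      rw [Algebra.TensorProduct.algebraMap_apply, Algebra.TensorProduct.tmul_mul_tmul, mul_one,
        one_mul, Algebra.algebraMap_self_apply], map_mul, map_mul]
    exact congrArg₂ (· * ·) (RingHom.congr_fun hfg a) (RingHom.congr_fun hS b)

theorem IsRadicial.comap_injective (h : IsRadicial R S) :
    Function.Injective (PrimeSpectrum.comap (algebraMap R S)) := by
  intro P Q hPQ
  set p := Q.asIdeal.comap (algebraMap R S) with hp
  have hPp : P.asIdeal.comap (algebraMap R S) = p := congrArg PrimeSpectrum.asIdeal hPQ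
  let _ : Algebra p.ResidueField P.asIdeal.ResidueField :=
    (Ideal.ResidueField.map p P.asIdeal (algebraMap R S) hPp.symm).toAlgebra
  let _ : Algebra p.ResidueField Q.asIdeal.ResidueField :=
    (Ideal.ResidueField.map p Q.asIdeal (algebraMap R S) hp).toAlgebra
  have : Nontrivial (P.asIdeal.ResidueField ⊗[p.ResidueField] Q.asIdeal.ResidueField) :=
    TensorProduct.nontrivial_of_linearMap_injective_of_flat_left p.ResidueField P.asIdeal.ResidueField
      Q.asIdeal.ResidueField (Algebra.linearMap _ _)
      (algebraMap p.ResidueField Q.asIdeal.ResidueField).injective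
  obtain ⟨m, hm⟩ := Ideal.exists_maximal (P.asIdeal.ResidueField ⊗[p.ResidueField] Q.asIdeal.ResidueField)
  let π := Ideal.Quotient.mk m
  let f : S →+* _ := (π.comp Algebra.TensorProduct.includeLeftRingHom).comp (algebraMap S P.asIdeal.ResidueField)
  let g : S →+* _ := (π.comp (Algebra.TensorProduct.includeRight :
    Q.asIdeal.ResidueField →ₐ[p.ResidueField] _).toRingHom).comp (algebraMap S Q.asIdeal.ResidueField)
  let _ := Ideal.Quotient.field m
  have hfg : f = g := h _ f g (RingHom.ext fun r => by
    have e1 : algebraMap S P.asIdeal.ResidueField (algebraMap R S r) =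
        algebraMap p.ResidueField P.asIdeal.ResidueField (algebraMap R p.ResidueField r) :=
      (Ideal.ResidueField.map_algebraMap p P.asIdeal (algebraMap R S) hPp.symm r).symm
    have e2 : algebraMap S Q.asIdeal.ResidueField (algebraMap R S r) =
        algebraMap p.ResidueField Q.asIdeal.ResidueField (algebraMap R p.ResidueField r) :=
      (Ideal.ResidueField.map_algebraMap p Q.asIdeal (algebraMap R S) hp r).symm
    simp only [f, g, RingHom.comp_apply, e1, e2, Algebra.TensorProduct.includeLeftRingHom_apply,
      AlgHom.toRingHom_eq_coe, RingHom.coe_coe, AlgHom.commutes]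
    rw [Algebra.TensorProduct.algebraMap_apply])
  have hk : ∀ {L : Type u} [Field L] (φ : L →+* _ ⧸ m) (ψ : S →+* L),
      RingHom.ker (φ.comp ψ) = RingHom.ker ψ := fun φ ψ => by
    ext s; simp [RingHom.mem_ker, φ.injective.eq_iff' (map_zero φ)]
  refine PrimeSpectrum.ext ?_
  rw [← Ideal.ker_algebraMap_residueField P.asIdeal, ← Ideal.ker_algebraMap_residueField Q.asIdeal,
    ← hk (π.comp Algebra.TensorProduct.includeLeftRingHom)]
  show RingHom.ker f = _
  rw [hfg, hk]

theorem IsRadicial.exists_pow_mem (h : IsRadicial R S) (q : Ideal S) [q.IsPrime]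
    (x : q.ResidueField) : ∃ n : ℕ, x ^ (ringExpChar (q.comap (algebraMap R S)).ResidueField) ^ n ∈
      Set.range (Ideal.ResidueField.map (q.comap (algebraMap R S)) q (algebraMap R S) rfl) := by
  let _ : Algebra (q.comap (algebraMap R S)).ResidueField q.ResidueField :=
    (Ideal.ResidueField.map (q.comap (algebraMap R S)) q (algebraMap R S) rfl).toAlgebra
  have : IsPurelyInseparable (q.comap (algebraMap R S)).ResidueField q.ResidueField := by
    rw [isPurelyInseparable_iff_subsingleton_emb]
    refine ⟨fun σ τ => AlgHom.coe_ringHom_injective (Ideal.ResidueField.ringHom_ext (h _ _ _ ?_))⟩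
    refine RingHom.ext fun r => ?_
    have e : algebraMap S q.ResidueField (algebraMap R S r) =
        algebraMap (q.comap (algebraMap R S)).ResidueField q.ResidueField (algebraMap R _ r) :=
      (Ideal.ResidueField.map_algebraMap _ q (algebraMap R S) rfl r).symm
    simp only [RingHom.comp_apply, RingHom.coe_coe, e, AlgHom.commutes]
  exact IsPurelyInseparable.pow_mem _ _ x

end GrothLib.FieldExtra
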