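import Mathlib.RingTheory.Valuation.ValuationRing
import Mathlib.RingTheory.LocalRing.ResidueField.Basic
import Mathlib.LinearAlgebra.FiniteDimensional.Basic
import Mathlib.GroupTheory.Index
import Mathlib.GroupTheory.QuotientGroup.Basic

/-!
# The inequality `e * f ≤ n` for extensions of valuation rings
-/

universe u

open IsLocalRing

namespace GrothLib.FieldExtra

variable {A B K L : Type u} [CommRing A] [IsDomain A] [ValuationRing A] [CommRing B] [IsDomain B]
  [ValuationRing B] [Field K] [Field L] [Algebra A K] [IsFractionRing A K] [Algebra B L]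
  [IsFractionRing B L] [Algebra A B] [Algebra K L] [Algebra A L] [IsScalarTower A K L]
  [IsScalarTower A B L] [IsLocalHom (algebraMap A B)]

local notation "v" => ValuationRing.valuation B L

omit [IsScalarTower A B L] [IsLocalHom (algebraMap A B)] [Algebra A B] [Algebra A L] [Algebra K L] in
theorem valuation_le_one_iff (x : L) : v x ≤ 1 ↔ ∃ b : B, algebraMap B L b = x :=
  ValuationRing.mem_integer_iff B L x

omit [IsScalarTower A B L] [IsLocalHom (algebraMap A B)] [Algebra A B] [Algebra A L] [Algebra K L] in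
theorem valuation_unit (u : Bˣ) : v (algebraMap B L u) = 1 := by
  refine le_antisymm ((valuation_le_one_iff _).2 ⟨u, rfl⟩) ?_
  have h := (valuation_le_one_iff (B := B) (L := L) (algebraMap B L ↑u⁻¹)).2 ⟨_, rfl⟩
  have h1 : v (algebraMap B L u) * v (algebraMap B L ↑u⁻¹) = 1 := by
    rw [← map_mul, ← map_mul, Units.mul_inv, map_one, map_one]
  calc (1 : _) = _ := h1.symm
    _ ≤ v (algebraMap B L u) := mul_le_of_le_one_right' h

omit [IsScalarTower A B L] [IsLocalHom (algebraMap A B)] [Algebra A B] [Algebra A L] [Algebra K L] in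
theorem mem_units_of_valuation_eq_one {x : Lˣ} (h : v (x : L) = 1) :
    x ∈ (Units.map (algebraMap B L).toMonoidHom).range := by
  obtain ⟨b, hb⟩ := (valuation_le_one_iff (B := B) (x : L)).1 h.le
  obtain ⟨c, hc⟩ := (valuation_le_one_iff (B := B) ((x : L)⁻¹)).1 (by rw [map_inv₀, h, inv_one])
  have hbc : b * c = 1 := IsFractionRing.injective B L (by
    rw [map_mul, hb, hc, map_one, mul_inv_cancel₀ x.ne_zero])
  exact ⟨Units.mkOfMulEqOne b c hbc, Units.ext hb⟩

theorem exists_preimage_of_valuation_le_one (hinj : Function.Injective (algebraMap A B)) (x : K)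
    (h : v (algebraMap K L x) ≤ 1) : ∃ a : A, algebraMap A K a = x := by
  rcases ValuationRing.isInteger_or_isInteger A x with ⟨a, ha⟩ | ⟨a, ha⟩
  · exact ⟨a, ha⟩
  · by_cases hx : x = 0
    · exact ⟨0, by rw [map_zero, hx]⟩
    have h1 : algebraMap B L (algebraMap A B a) = (algebraMap K L x)⁻¹ := by
      rw [← IsScalarTower.algebraMap_apply, IsScalarTower.algebraMap_apply A K L, ha, map_inv₀]
    have hv : v (algebraMap K L x) = 1 := by
      refine le_antisymm h ?_
      have h2 := (valuation_le_one_iff (B := B) (L := L) (algebraMap K L x)⁻¹).2 ⟨_, h1⟩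
      rw [map_inv₀] at h2
      exact (inv_le_one₀ (by
        rw [Valuation.pos_iff]; exact (map_ne_zero _).2 hx)).1 h2
    obtain ⟨b, hb⟩ := (valuation_le_one_iff (B := B) (algebraMap K L x)).1 hv.le
    have hu : IsUnit (algebraMap A B a) := IsUnit.of_mul_eq_one b (IsFractionRing.injective B L (by
      rw [map_mul, h1, hb, map_one, inv_mul_cancel₀ ((map_ne_zero _).2 hx)]))
    obtain ⟨w, rfl⟩ := isUnit_of_map_unit (algebraMap A B) a hu
    refine ⟨↑w⁻¹, ?_⟩
    rw [← inv_inv x, ← ha]
    exact map_units_inv (algebraMap A K) w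

theorem linearIndependent_mul (hinj : Function.Injective (algebraMap A B)) {ι κ : Type*}
    (u : ι → B) (hu : LinearIndependent (ResidueField A) (fun i => residue B (u i))) (t : κ → L)
    (ht0 : ∀ j, t j ≠ 0)
    (ht : ∀ (j j' : κ) (a : K), a ≠ 0 → v (t j) = v (algebraMap K L a) * v (t j') → j = j') :
    LinearIndependent K (fun p : ι × κ => algebraMap B L (u p.1) * t p.2) := by
  classical
  rw [linearIndependent_iff']
  intro s g hg p hp
  by_contra hgp
  let S : κ → L := fun j =>
    ∑ q ∈ s with q.2 = j, algebraMap K L (g q) * algebraMap B L (u q.1)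
  have hsum : ∑ j ∈ s.image Prod.snd, S j * t j = 0 := by
    rw [← hg, ← Finset.sum_fiberwise_of_maps_to (g := Prod.snd) fun q hq => Finset.mem_image_of_mem _ hq]
    refine Finset.sum_congr rfl fun j _ => ?_
    rw [Finset.sum_mul]
    refine Finset.sum_congr rfl fun q hq => ?_
    rw [Algebra.smul_def, (Finset.mem_filter.1 hq).2, mul_assoc]
  -- each partial sum has the value of one of its coefficients
  have hS : ∀ j, (∃ q ∈ s, q.2 = j ∧ g q ≠ 0) →
      ∃ a : K, a ≠ 0 ∧ v (S j) = v (algebraMap K L a) := by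
    rintro j ⟨q₀, hq₀, hq₀j, hgq₀⟩
    obtain ⟨m, hm, hmax⟩ := Finset.exists_max_image (s.filter fun q => q.2 = j)
      (fun q => v (algebraMap K L (g q))) ⟨q₀, Finset.mem_filter.2 ⟨hq₀, hq₀j⟩⟩
    have hgm : g m ≠ 0 := by
      intro e
      have := hmax q₀ (Finset.mem_filter.2 ⟨hq₀, hq₀j⟩)
      rw [e, map_zero, map_zero, le_zero_iff, Valuation.zero_iff, map_eq_zero] at this
      exact hgq₀ this
    refine ⟨g m, hgm, ?_⟩
    have hcoef : ∀ q ∈ s.filter (fun q => q.2 = j), ∃ a : A, algebraMap A K a = g q / g m :=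
      fun q hq => exists_preimage_of_valuation_le_one (A := A) (B := B) (L := L) hinj (g q / g m) (by
        rw [map_div₀, map_div₀]
        exact (div_le_one₀ (by rw [Valuation.pos_iff]; exact (map_ne_zero _).2 hgm)).2 (hmax q hq))
    choose! a ha using hcoef
    have hSj : S j = algebraMap K L (g m) *
        algebraMap B L (∑ q ∈ s with q.2 = j, algebraMap A B (a q) * u q.1) := by
      rw [map_sum, Finset.mul_sum]
      refine Finset.sum_congr rfl fun q hq => ?_
      rw [map_mul, ← IsScalarTower.algebraMap_apply, IsScalarTower.algebraMap_apply A K L, ha q hq,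
        map_div₀, ← mul_assoc, mul_div_cancel₀ _ ((map_ne_zero _).2 hgm)]
    have hunit : IsUnit (∑ q ∈ s with q.2 = j, algebraMap A B (a q) * u q.1) := by
      rw [← residue_ne_zero_iff_isUnit, map_sum]
      intro h0
      have hinjOn : Set.InjOn Prod.fst ((s.filter fun q : ι × κ => q.2 = j) : Set (ι × κ)) :=
        fun x hx y hy hxy => Prod.ext hxy
          ((Finset.mem_filter.1 (Finset.mem_coe.1 hx)).2.trans (Finset.mem_filter.1 (Finset.mem_coe.1 hy)).2.symm)
      have hli : LinearIndependent (ResidueField A)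
          (fun q : (s.filter fun q : ι × κ => q.2 = j) => residue B (u q.1.1)) :=
        hu.comp _ fun x y hxy => Subtype.ext (hinjOn x.2 y.2 hxy)
      rw [← Finset.sum_coe_sort] at h0
      have h1 := Fintype.linearIndependent_iff.1 hli (fun q => residue A (a q.1)) (by
        rw [← h0]
        refine Finset.sum_congr rfl fun q _ => ?_
        rw [map_mul, Algebra.smul_def]
        rfl) ⟨m, hm⟩
      have ha1 : a m = 1 := IsFractionRing.injective A K (by rw [ha m hm, div_self hgm, map_one])
      simp [ha1] at h1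
    obtain ⟨w, hw⟩ := hunit
    rw [hSj, map_mul, ← hw, valuation_unit, mul_one]
  set T := (s.image Prod.snd).filter fun j => ∃ q ∈ s, q.2 = j ∧ g q ≠ 0
  have hT : ∑ j ∈ T, S j * t j = 0 := by
    rw [Finset.sum_filter_of_ne, hsum]
    intro j _ hne
    by_contra hc
    push Not at hc
    refine hne ?_
    rw [show S j = 0 from Finset.sum_eq_zero fun q hq => by
      rw [hc q (Finset.mem_filter.1 hq).1 (Finset.mem_filter.1 hq).2, map_zero, zero_mul], zero_mul]
  have hTne : T.Nonempty :=
    ⟨p.2, Finset.mem_filter.2 ⟨Finset.mem_image_of_mem _ hp, p, hp, rfl, hgp⟩⟩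
  obtain ⟨j₀, hj₀, hj₀max⟩ := Finset.exists_max_image T (fun j => v (S j * t j)) hTne
  obtain ⟨a₀, ha₀, hv₀⟩ := hS j₀ (Finset.mem_filter.1 hj₀).2
  have hne0 : v (S j₀ * t j₀) ≠ 0 := by
    rw [map_mul, hv₀]
    exact mul_ne_zero ((Valuation.ne_zero_iff _).2 ((map_ne_zero _).2 ha₀))
      ((Valuation.ne_zero_iff _).2 (ht0 j₀))
  have hlt : ∀ j ∈ T \ {j₀}, v (S j * t j) < v (S j₀ * t j₀) := by
    intro j hj
    rw [Finset.mem_sdiff, Finset.mem_singleton] at hj
    refine lt_of_le_of_ne (hj₀max j hj.1) fun e => hj.2 ?_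
    obtain ⟨a, ha, hva⟩ := hS j (Finset.mem_filter.1 hj.1).2
    refine ht j j₀ (a₀ / a) (div_ne_zero ha₀ ha) ?_
    rw [map_mul, map_mul, hv₀, hva] at e
    rw [map_div₀, map_div₀, div_mul_eq_mul_div,
      eq_div_iff ((Valuation.ne_zero_iff _).2 ((map_ne_zero _).2 ha)), mul_comm, e]
  rw [← Valuation.map_sum_eq_of_lt v hj₀ hlt, hT, map_zero] at hne0
  exact hne0 rfl

theorem finite_and_index_mul_finrank_le (hinj : Function.Injective (algebraMap A B))
    [FiniteDimensional K L] :
    let UB : Subgroup Lˣ := (Units.map (algebraMap B L).toMonoidHom).range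
    let ΓA : Subgroup (Lˣ ⧸ UB) :=
      ((QuotientGroup.mk' UB).comp (Units.map (algebraMap K L).toMonoidHom)).range
    Module.Finite (ResidueField A) (ResidueField B) ∧ ΓA.index ≠ 0 ∧
      ΓA.index * Module.finrank (ResidueField A) (ResidueField B) ≤ Module.finrank K L := by
  classical
  intro UB ΓA
  have key : ∀ (s : Finset (ResidueField B)), LinearIndependent (ResidueField A) (fun r : s => (r : ResidueField B)) →
      ∀ (T : Finset ((Lˣ ⧸ UB) ⧸ ΓA)), s.card * T.card ≤ Module.finrank K L := by
    intro s hs T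
    choose u hu using fun r : ResidueField B => residue_surjective r
    choose t ht using fun q : (Lˣ ⧸ UB) ⧸ ΓA =>
      (QuotientGroup.mk_surjective.comp QuotientGroup.mk_surjective) q
    have hli := linearIndependent_mul (L := L) (K := K) hinj (fun r : s => u r) (by simpa [hu] using hs)
      (fun q : T => ((t q : Lˣ) : L)) (fun q => (t q).ne_zero) (fun j j' a ha he => by
        refine Subtype.ext ?_
        rw [← ht j, ← ht j']
        show (QuotientGroup.mk (QuotientGroup.mk (t j) : Lˣ ⧸ UB) : (Lˣ ⧸ UB) ⧸ ΓA) = _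
        refine QuotientGroup.eq.2 ⟨(Units.mk0 a ha)⁻¹, ?_⟩
        show (QuotientGroup.mk (Units.map (algebraMap K L).toMonoidHom (Units.mk0 a ha)⁻¹) : Lˣ ⧸ UB) =
          (QuotientGroup.mk (t j))⁻¹ * QuotientGroup.mk (t j')
        rw [← QuotientGroup.mk_inv, ← QuotientGroup.mk_mul, QuotientGroup.eq]
        refine mem_units_of_valuation_eq_one (B := B) ?_
        simp only [map_inv, inv_inv, Units.val_mul, Units.val_inv_eq_inv_val, Units.coe_map,
          MonoidHom.coe_coe, RingHom.toMonoidHom_eq_coe, Units.val_mk0, map_mul, map_inv₀]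
        have h1 : v (algebraMap K L a) ≠ 0 := (Valuation.ne_zero_iff _).2 ((map_ne_zero _).2 ha)
        have h2 : v ((t j' : Lˣ) : L) ≠ 0 := (Valuation.ne_zero_iff _).2 (t j').ne_zero
        rw [he]
        field_simp)
    simpa [mul_comm] using hli.fintype_card_le_finrank
  have hrank : Module.rank (ResidueField A) (ResidueField B) ≤ Module.finrank K L :=
    rank_le fun s hs => by simpa using key s hs {QuotientGroup.mk 1}
  have hfin : Module.Finite (ResidueField A) (ResidueField B) :=
    Module.rank_lt_aleph0_iff.1 (hrank.trans_lt Cardinal.natCast_lt_aleph0)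
  let b := Module.finBasis (ResidueField A) (ResidueField B)
  have hb : LinearIndependent (ResidueField A)
      (fun r : Finset.univ.image b => (r : ResidueField B)) := by
    have hr : ((Finset.univ.image b : Finset _) : Set (ResidueField B)) = Set.range b := by simp
    show LinearIndepOn (ResidueField A) id ((Finset.univ.image b : Finset _) : Set (ResidueField B))
    rw [hr]
    exact b.linearIndependent.linearIndepOn_id
  have hcard : (Finset.univ.image b).card = Module.finrank (ResidueField A) (ResidueField B) := by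
    rw [Finset.card_image_of_injective _ b.injective, Finset.card_univ, Fintype.card_fin]
  have hpos : 0 < Module.finrank (ResidueField A) (ResidueField B) := Module.finrank_pos
  have hbound : ∀ T : Finset ((Lˣ ⧸ UB) ⧸ ΓA), T.card ≤ Module.finrank K L := fun T => by
    have := key _ hb T
    rw [hcard] at this
    exact (Nat.le_mul_of_pos_left _ hpos).trans this
  have : Finite ((Lˣ ⧸ UB) ⧸ ΓA) := by
    by_contra hc
    rw [not_finite_iff_infinite] at hc
    obtain ⟨T, hT⟩ := Infinite.exists_subset_card_eq ((Lˣ ⧸ UB) ⧸ ΓA) (Module.finrank K L + 1)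
    have := hbound T
    omega
  have := Fintype.ofFinite ((Lˣ ⧸ UB) ⧸ ΓA)
  refine ⟨hfin, Subgroup.index_ne_zero_of_finite, ?_⟩
  have h := key _ hb Finset.univ
  rw [hcard, Finset.card_univ, mul_comm] at h
  rwa [Subgroup.index, Nat.card_eq_fintype_card]

end GrothLib.FieldExtra
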